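import Groth.Agent.H02CA.PicRegular
import Groth.Agent.H4Depth.Regular
import Mathlib.RingTheory.UniqueFactorizationDomain.Kaplansky
import Mathlib.RingTheory.Ideal.KrullsHeightTheorem
import Mathlib.RingTheory.Ideal.Height
import Mathlib.RingTheory.PicardGroup
import Mathlib.RingTheory.UniqueFactorizationDomain.Multiplicity

/-!
# Regular local rings are factorial (Auslander–Buchsbaum)
-/

set_option autoImplicit false

universe u

namespace Groth.Agent.H28Alg

open IsLocalRing

theorem eq_bot_of_lt_of_height_le_one {R : Type u} [CommRing R] [IsDomain R] {Q P : Ideal R}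
    [Q.IsPrime] [P.IsPrime] [P.FiniteHeight] (hP : P.height ≤ 1) (h : Q < P) : Q = ⊥ := by
  have hlt := (Ideal.height_strict_mono_of_isPrime_of_isPrime h).trans_le hP
  have h0 : Q.height = 0 := Order.lt_one_iff.mp hlt
  rw [Ideal.height_eq_zero_iff, IsDomain.minimalPrimes_eq_singleton_bot] at h0
  exact h0

theorem isPrincipal_of_units {L K : Type u} [CommRing L] [CommRing K] [Algebra L K] [FaithfulSMul L K]
    [Subsingleton (CommRing.Pic L)] (u : (Submodule L K)ˣ) : (u : Submodule L K).IsPrincipal := by
  obtain ⟨e⟩ := Module.Invertible.free_iff_linearEquiv.mp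
    (inferInstance : Module.Free L (u : Submodule L K))
  refine ⟨(e.symm 1 : (u : Submodule L K)).1, le_antisymm (fun z hz => ?_) ?_⟩
  · refine Submodule.mem_span_singleton.mpr ⟨e ⟨z, hz⟩, ?_⟩
    rw [← Submodule.coe_smul, ← map_smul, smul_eq_mul, mul_one, LinearEquiv.symm_apply_apply]
  · exact (Submodule.span_singleton_le_iff_mem _ _).mpr (e.symm 1).2

/-- A locally principal ideal in a domain with trivial Picard group is principal. -/
theorem isPrincipal_of_locally {L : Type u} [CommRing L] [IsDomain L] [Subsingleton (CommRing.Pic L)]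
    (I : Ideal L) (hI : I ≠ ⊥)
    (h : ∀ n : Ideal L, n.IsMaximal → ∃ f ∈ I, ∃ s ∉ n, ∀ y ∈ I, f ∣ s * y) : I.IsPrincipal := by
  obtain ⟨a, haI, ha0⟩ := Submodule.exists_mem_ne_zero_of_ne_bot hI
  let J : Ideal L :=
    { carrier := {c | ∀ y ∈ I, a ∣ c * y}
      add_mem' := fun {c d} hc hd y hy => by rw [add_mul]; exact dvd_add (hc y hy) (hd y hy)
      zero_mem' := fun y _ => by simp
      smul_mem' := fun r c hc y hy => by rw [smul_eq_mul, mul_assoc]; exact (hc y hy).mul_left r }
  have hIJ : I * J = Ideal.span {a} := by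
    refine le_antisymm ?_ ((Ideal.span_singleton_le_iff_mem _).mpr ?_)
    · rw [Ideal.mul_le]
      intro y hy c hc
      rw [Ideal.mem_span_singleton, mul_comm]
      exact hc y hy
    · let A : Ideal L :=
        { carrier := {s | s * a ∈ I * J}
          add_mem' := fun {s t} hs ht => by
            show (s + t) * a ∈ I * J
            rw [add_mul]; exact add_mem hs ht
          zero_mem' := by simp
          smul_mem' := fun r s hs => by
            show (r • s) * a ∈ I * J
            rw [smul_eq_mul, mul_assoc]; exact Ideal.mul_mem_left _ r hs }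
      suffices A = ⊤ by
        have h1 : (1 : L) * a ∈ I * J := (Ideal.eq_top_iff_one A).mp this
        rwa [one_mul] at h1
      by_contra hA
      obtain ⟨n, hn, hAn⟩ := Ideal.exists_le_maximal A hA
      obtain ⟨f, hfI, s, hs, hsf⟩ := h n hn
      obtain ⟨c, hc⟩ := hsf a haI
      have hs0 : s ≠ 0 := fun e => hs (e ▸ n.zero_mem)
      have hcJ : c ∈ J := fun y hy => by
        obtain ⟨b, hb⟩ := hsf y hy
        refine ⟨b, mul_left_cancel₀ hs0 ?_⟩
        calc s * (c * y) = c * (f * b) := by rw [← hb]; ring
          _ = f * c * b := by ring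
          _ = s * (a * b) := by rw [← hc]; ring
      exact hs (hAn (show s * a ∈ I * J by rw [hc]; exact Ideal.mul_mem_mul hfI hcJ))
  let K := FractionRing L
  have ha' : algebraMap L K a ≠ 0 := (IsFractionRing.to_map_ne_zero_of_mem_nonZeroDivisors
    (mem_nonZeroDivisors_of_ne_zero ha0))
  let FI : FractionalIdeal (nonZeroDivisors L) K := I
  let FJ : FractionalIdeal (nonZeroDivisors L) K :=
    (J : FractionalIdeal (nonZeroDivisors L) K) *
      FractionalIdeal.spanSingleton (nonZeroDivisors L) (algebraMap L K a)⁻¹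
  have h1 : FI * FJ = 1 := by
    show (I : FractionalIdeal (nonZeroDivisors L) K) * (_ * _) = 1
    rw [← mul_assoc, ← FractionalIdeal.coeIdeal_mul, hIJ, FractionalIdeal.coeIdeal_span_singleton,
      FractionalIdeal.spanSingleton_mul_spanSingleton, mul_inv_cancel₀ ha',
      FractionalIdeal.spanSingleton_one]
  let u : (Submodule L K)ˣ :=
    { val := (FI : Submodule L K)
      inv := (FJ : Submodule L K)
      val_inv := by rw [← FractionalIdeal.coe_mul, h1, FractionalIdeal.coe_one]
      inv_val := by rw [← FractionalIdeal.coe_mul, mul_comm, h1, FractionalIdeal.coe_one] }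
  have hp := isPrincipal_of_units u
  exact (IsFractionRing.coeSubmodule_isPrincipal (R := L) (K := K) (I := I)).mp hp

theorem ufd_of_regular_of_dim_le : ∀ (n : ℕ) (R : Type u) [CommRing R] [IsRegularLocalRing R]
    [IsDomain R], ringKrullDim R ≤ n → UniqueFactorizationMonoid R := by
  intro n
  induction n with
  | zero =>
    intro R _ _ _ hd
    have : Ring.KrullDimLE 0 R := Ring.krullDimLE_iff.mpr hd
    letI := (Ring.KrullDimLE.isField_of_isDomain (R := R)).toField
    infer_instance
  | succ n ih =>
    intro R _ _ _ hd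
    have hsp := IsRegularLocalRing.spanFinrank_maximalIdeal (R := R)
    obtain ⟨d, hdd⟩ : ∃ d : ℕ, ringKrullDim R = d := ⟨_, hsp.symm⟩
    rcases Nat.eq_zero_or_pos d with h0 | hpos
    · refine ih R ?_
      rw [hdd, h0]; exact_mod_cast n.zero_le
    obtain ⟨g, hg⟩ : ∃ g : Fin d → R, Ideal.span (Set.range g) = maximalIdeal R := by
      rw [hdd] at hsp
      have : (maximalIdeal R).spanFinrank = d := by exact_mod_cast hsp
      subst this
      exact H4Depth.exists_fun_fin_span_eq
    obtain ⟨hreg, hdimq⟩ := H4Depth.exists_regular_quotient_of_subset d hdd g hg {⟨0, hpos⟩}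
    rw [Finset.coe_singleton, Set.image_singleton] at hreg hdimq
    set x := g ⟨0, hpos⟩ with hx
    have hxm : x ∈ maximalIdeal R := hg ▸ Ideal.subset_span ⟨_, rfl⟩
    have hx0 : x ≠ 0 := by
      intro e
      have h1 : ringKrullDim (R ⧸ Ideal.span {x}) = ringKrullDim R :=
        ringKrullDim_eq_of_ringEquiv ((Ideal.quotEquivOfEq (by rw [e, Ideal.span_singleton_eq_bot])).trans
          (RingEquiv.quotientBot R))
      rw [hdimq, hdd, Finset.card_singleton] at h1
      have : d - 1 = d := by exact_mod_cast h1
      omega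
    have hxp : Prime x := by
      rw [← Ideal.span_singleton_prime hx0, ← Ideal.Quotient.isDomain_iff_prime]
      exact H4Depth.isDomain_of_isRegularLocalRing _
    rw [UniqueFactorizationMonoid.iff_exists_prime_mem_of_isPrime]
    intro I hI hIp
    by_cases hxI : x ∈ I
    · exact ⟨x, hxI, hxp⟩
    obtain ⟨z, hzI, hz0⟩ := Submodule.exists_mem_ne_zero_of_ne_bot hI
    obtain ⟨P, hP, hPI⟩ := Ideal.exists_minimalPrimes_le ((Ideal.span_singleton_le_iff_mem I).2 hzI)
    have hPp : P.IsPrime := hP.1.1
    have hzP : z ∈ P := hP.1.2 (Ideal.mem_span_singleton_self z)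
    have hh : P.height ≤ 1 :=
      Ideal.height_le_one_of_isPrincipal_of_mem_minimalPrimes (Ideal.span {z}) P hP
    have hxP : x ∉ P := fun h => hxI (hPI h)
    let L := Localization (Submonoid.powers x)
    let ι := algebraMap R L
    have hle : Submonoid.powers x ≤ nonZeroDivisors R :=
      Submonoid.powers_le.mpr (mem_nonZeroDivisors_of_ne_zero hx0)
    have : IsDomain L := IsLocalization.isDomain_localization hle
    have : Subsingleton (CommRing.Pic L) := H02CA.PicRegular.subsingleton_pic _
    have hinj : Function.Injective ι := IsLocalization.injective L hle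
    have hPL : P.map ι ≠ ⊥ := fun h =>
      hz0 (hinj (((Submodule.mem_bot L).mp (h ▸ Ideal.mem_map_of_mem ι hzP)).trans ι.map_zero.symm))
    have hloc : (P.map ι).IsPrincipal := by
      refine isPrincipal_of_locally _ hPL fun N hN => ?_
      by_cases hPN : P.map ι ≤ N
      swap
      · obtain ⟨s, hsI, hsN⟩ := SetLike.not_le_iff_exists.mp hPN
        exact ⟨s, hsI, s, hsN, fun y _ => dvd_mul_right s y⟩
      let q := N.comap ι
      have hqp : q.IsPrime := Ideal.IsPrime.comap ι
      have hxq : x ∉ q := fun h => hN.ne_top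
        (Ideal.eq_top_of_isUnit_mem N h (IsLocalization.map_units L (⟨x, Submonoid.mem_powers x⟩ : Submonoid.powers x)))
      have hqm : q < maximalIdeal R :=
        lt_of_le_of_ne (le_maximalIdeal hqp.ne_top) fun e => hxq (e ▸ hxm)
      let Rq := Localization.AtPrime q
      have hregq : IsRegularLocalRing Rq := H05EGA4.isRegularLocalRing_localization R q
      have hdq : ringKrullDim Rq ≤ n := by
        rw [IsLocalization.AtPrime.ringKrullDim_eq_height q Rq]
        have h1 := Ideal.height_strict_mono_of_isPrime hqm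
        have h2 : ((maximalIdeal R).height : WithBot ℕ∞) ≤ ((n + 1 : ℕ) : WithBot ℕ∞) := by
          rw [IsLocalRing.maximalIdeal_height_eq_ringKrullDim]; exact hd
        obtain ⟨m, hm⟩ : ∃ m : ℕ, q.height = m := ⟨_, (ENat.coe_toNat (ne_top_of_lt h1)).symm⟩
        have h3 : (maximalIdeal R).height ≤ ((n + 1 : ℕ) : ℕ∞) := by exact_mod_cast h2
        have h4 := h1.trans_le h3
        rw [hm] at h4 ⊢
        exact_mod_cast Nat.lt_succ_iff.mp (show m < n + 1 by exact_mod_cast h4)
      have : IsDomain Rq := IsLocalization.isDomain_localization q.primeCompl_le_nonZeroDivisors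
      have := ih Rq hdq
      have hPq : P ≤ q := Ideal.map_le_iff_le_comap.mp hPN
      have hdisj : Disjoint (q.primeCompl : Set R) P :=
        Set.disjoint_left.mpr fun a ha haP => ha (hPq haP)
      have hP' := IsLocalization.isPrime_of_isPrime_disjoint q.primeCompl Rq P hPp hdisj
      have hP'c := IsLocalization.under_map_of_isPrime_disjoint q.primeCompl Rq (I := P) hPp hdisj
      have hinjq : Function.Injective (algebraMap R Rq) :=
        IsLocalization.injective Rq q.primeCompl_le_nonZeroDivisors
      have hP'0 : P.map (algebraMap R Rq) ≠ ⊥ := fun h =>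
        hz0 (hinjq (((Submodule.mem_bot Rq).mp (h ▸ Ideal.mem_map_of_mem _ hzP)).trans (map_zero _).symm))
      obtain ⟨π, hπP, hπ⟩ :=
        UniqueFactorizationMonoid.iff_exists_prime_mem_of_isPrime.mp ‹_› _ hP'0 hP'
      obtain ⟨f, t, rfl⟩ := IsLocalization.exists_mk'_eq q.primeCompl π
      have hassoc : Ideal.span {IsLocalization.mk' Rq f t} = Ideal.span {algebraMap R Rq f} := by
        rw [← IsLocalization.mk'_spec Rq f t,
          Ideal.span_singleton_mul_right_unit (IsLocalization.map_units Rq t)]
      have hfP : f ∈ P := hP'c ▸ Ideal.mem_comap.mpr ((Ideal.span_singleton_le_iff_mem _).mp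
        (hassoc ▸ (Ideal.span_singleton_le_iff_mem _).mpr hπP))
      have hQp : (Ideal.span {IsLocalization.mk' Rq f t}).IsPrime :=
        (Ideal.span_singleton_prime hπ.ne_zero).mpr hπ
      have heq : Ideal.span {IsLocalization.mk' Rq f t} = P.map (algebraMap R Rq) := by
        by_contra hne
        have hlt := lt_of_le_of_ne ((Ideal.span_singleton_le_iff_mem _).mpr hπP) hne
        have hc : (Ideal.span {IsLocalization.mk' Rq f t}).comap (algebraMap R Rq) < P := by
          refine lt_of_le_of_ne (hP'c ▸ Ideal.comap_mono hlt.le) fun e => hlt.ne ?_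
          rw [← e, IsLocalization.map_under q.primeCompl]
        have := eq_bot_of_lt_of_height_le_one hh hc
        have hb : Ideal.span {IsLocalization.mk' Rq f t} = ⊥ := by
          rw [← IsLocalization.map_under q.primeCompl Rq (Ideal.span {IsLocalization.mk' Rq f t})]
          exact (congrArg (Ideal.map (algebraMap R Rq)) this).trans Ideal.map_bot
        exact hπ.ne_zero (Ideal.span_singleton_eq_bot.mp hb)
      have hdiv : ∀ y ∈ P, ∃ s ∉ q, f ∣ s * y := fun y hy => by
        have hy' : algebraMap R Rq y ∈ Ideal.span {algebraMap R Rq f} := by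
          rw [← hassoc, heq]; exact Ideal.mem_map_of_mem _ hy
        obtain ⟨b, hb⟩ := Ideal.mem_span_singleton.mp hy'
        obtain ⟨b, s, rfl⟩ := IsLocalization.exists_mk'_eq q.primeCompl b
        refine ⟨s, s.2, b, hinjq ?_⟩
        rw [map_mul, map_mul, hb, ← IsLocalization.mk'_spec Rq b s]
        ring
      obtain ⟨G, hG⟩ := IsNoetherian.noetherian P
      classical
      choose! s hs hsdiv using hdiv
      refine ⟨ι f, Ideal.mem_map_of_mem ι hfP, ι (∏ y ∈ G, s y), fun h => ?_, ?_⟩
      · obtain ⟨y, hy, h'⟩ := (Ideal.IsPrime.prod_mem_iff (p := q)).mp (Ideal.mem_comap.mpr h)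
        exact hs y (hG ▸ Submodule.subset_span hy) h'
      · intro y hy
        rw [← hG, Ideal.map_span] at hy
        induction hy using Submodule.span_induction with
        | mem y hy =>
          obtain ⟨y, hyG, rfl⟩ := hy
          rw [← map_mul]
          refine map_dvd ι ((hsdiv y (hG ▸ Submodule.subset_span hyG)).trans ?_)
          exact mul_dvd_mul_right (Finset.dvd_prod_of_mem s hyG) y
        | zero => simp
        | add a b _ _ ha hb => rw [mul_add]; exact dvd_add ha hb
        | smul r a _ h => rw [smul_eq_mul, mul_left_comm]; exact h.mul_left r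
    obtain ⟨⟨π, hπ⟩⟩ := hloc
    rw [Ideal.submodule_span_eq] at hπ
    obtain ⟨⟨b, t⟩, hb⟩ := IsLocalization.surj (Submonoid.powers x) π
    have hspan : P.map ι = Ideal.span {ι b} := by
      rw [hπ, ← hb, Ideal.span_singleton_mul_right_unit (IsLocalization.map_units L t)]
    have hb0 : b ≠ 0 := fun e => hPL (by rw [hspan, e, map_zero, Ideal.span_singleton_eq_bot.mpr rfl])
    obtain ⟨k, b', hb', rfl⟩ := WfDvdMonoid.max_power_factor hb0 hxp.irreducible
    have hspan' : P.map ι = Ideal.span {ι b'} := by
      rw [hspan, map_mul, map_pow, mul_comm,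
        Ideal.span_singleton_mul_right_unit
          ((IsLocalization.map_units L (⟨x, Submonoid.mem_powers x⟩ : Submonoid.powers x)).pow k)]
    have hdisj : Disjoint (Submonoid.powers x : Set R) P :=
      Set.disjoint_left.mpr fun a ⟨m, hm⟩ haP => hxP (hPp.mem_of_pow_mem m ((show x ^ m = a from hm).symm ▸ haP))
    have hcomap := IsLocalization.under_map_of_isPrime_disjoint (Submonoid.powers x) L (I := P) hPp hdisj
    have hPb : P = Ideal.span {b'} := by
      refine le_antisymm (fun a ha => ?_) ((Ideal.span_singleton_le_iff_mem _).mpr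
        (hcomap ▸ Ideal.mem_comap.mpr (hspan' ▸ Ideal.mem_span_singleton_self (ι b'))))
      obtain ⟨w, hw⟩ := Ideal.mem_span_singleton.mp (hspan' ▸ Ideal.mem_map_of_mem ι ha)
      obtain ⟨w, s, rfl⟩ := IsLocalization.exists_mk'_eq (Submonoid.powers x) w
      obtain ⟨m, hm⟩ := s.2
      have h1 : a * x ^ m = b' * w := hinj (by
        rw [map_mul, map_mul, show x ^ m = (s : R) from hm]
        rw [show algebraMap R L a = ι a from rfl, hw, mul_assoc, IsLocalization.mk'_spec])
      rw [Ideal.mem_span_singleton]
      obtain ⟨v, hv⟩ : x ^ m ∣ w :=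
        hxp.pow_dvd_of_dvd_mul_left m hb' (by rw [← h1]; exact dvd_mul_left _ _)
      exact ⟨v, mul_right_cancel₀ (pow_ne_zero m hx0) (by rw [h1, hv]; ring)⟩
    have hb'0 : b' ≠ 0 := fun e => hz0 (by
      have := hPb ▸ hzP
      rwa [e, Ideal.span_singleton_eq_bot.mpr rfl, Submodule.mem_bot] at this)
    exact ⟨b', hPI (hPb ▸ Ideal.mem_span_singleton_self b'),
      (Ideal.span_singleton_prime hb'0).mp (hPb ▸ hPp)⟩

/-- Auslander–Buchsbaum: a regular local ring is a unique factorization domain. -/
theorem ufd_of_regular (R : Type u) [CommRing R] [IsRegularLocalRing R] [IsDomain R] :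
    UniqueFactorizationMonoid R := by
  obtain ⟨d, hd⟩ := H4Depth.exists_nat_ringKrullDim_eq (R := R)
  exact ufd_of_regular_of_dim_le d R hd.le

end Groth.Agent.H28Alg
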