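import Mathlib.Algebra.Homology.DerivedCategory.Ext.ExtClass
import Mathlib.Algebra.Homology.DerivedCategory.Ext.ExactSequences
import Mathlib.Algebra.Homology.DerivedCategory.TStructure
import Mathlib.Algebra.Homology.DerivedCategory.FullyFaithful
import Mathlib.CategoryTheory.Triangulated.TStructure.TruncLTGE

/-!
# Every class in `Ext¹` is the class of an extension
-/

namespace Groth.Agent.H28Alg

open CategoryTheory CategoryTheory.Limits CategoryTheory.Abelian CategoryTheory.Pretriangulated DerivedCategory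

universe v' v w

variable {C : Type w} [Category.{v} C] [Abelian C]

theorem exists_shortExact_extClass_eq [HasExt.{v'} C] {F Q : C} (ξ : Ext Q F 1) :
    ∃ (X : C) (i : F ⟶ X) (q : X ⟶ Q) (w₀ : i ≫ q = 0) (hS : (ShortComplex.mk i q w₀).ShortExact),
      hS.extClass = ξ := by
  let := HasDerivedCategory.standard C
  let S := singleFunctor C 0
  obtain ⟨Z, f, g, hT⟩ := distinguished_cocone_triangle₂ (C := DerivedCategory C)
    (Z := S.obj Q) (X := S.obj F) ξ.hom
  let T := Triangle.mk f g ξ.hom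
  have : Z.IsLE 0 := TStructure.t.isLE₂ T hT 0 (inferInstanceAs ((S.obj F).IsLE 0)) (inferInstanceAs ((S.obj Q).IsLE 0))
  have : Z.IsGE 0 := TStructure.t.isGE₂ T hT 0 (inferInstanceAs ((S.obj F).IsGE 0)) (inferInstanceAs ((S.obj Q).IsGE 0))
  obtain ⟨X, ⟨e⟩⟩ := Z.exists_iso_singleFunctor_obj_of_isGE_of_isLE 0
  let i : F ⟶ X := S.preimage (f ≫ e.hom)
  let q : X ⟶ Q := S.preimage (e.inv ≫ g)
  let T' := Triangle.mk (S.map i) (S.map q) ξ.hom
  have hT' : T' ∈ distTriang _ := isomorphic_distinguished _ hT _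
    (Triangle.isoMk T' T (Iso.refl _) e.symm (Iso.refl _)
      (by change S.map i ≫ e.inv = 𝟙 (S.obj F) ≫ f
          simp only [i, Functor.map_preimage, Category.assoc, Iso.hom_inv_id, Category.comp_id, Category.id_comp])
      (by change S.map q ≫ 𝟙 (S.obj Q) = e.inv ≫ g
          simp only [q, Functor.map_preimage, Category.comp_id])
      (by change ξ.hom ≫ (shiftFunctor _ (1 : ℤ)).map (𝟙 (S.obj F)) = 𝟙 (S.obj Q) ≫ ξ.hom
          rw [Category.id_comp, CategoryTheory.Functor.map_id]; exact Category.comp_id _))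
  have w₀ : i ≫ q = 0 := S.map_injective (by
    rw [Functor.map_comp, Functor.map_zero]
    exact comp_distTriang_mor_zero₁₂ _ hT')
  have hmono : Mono i := by
    refine Preadditive.mono_of_cancel_zero _ fun {K} k hk => S.map_injective ?_
    rw [Functor.map_zero]
    obtain ⟨a, ha⟩ := Triangle.coyoneda_exact₂ _ (inv_rot_of_distTriang _ hT') (S.map k)
      (show S.map k ≫ S.map i = 0 by rw [← Functor.map_comp, hk, Functor.map_zero])
    have : TStructure.t.IsGE ((S.obj Q)⟦(-1 : ℤ)⟧) 1 := TStructure.t.isGE_shift (S.obj Q) 0 (-1) 1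
    have : TStructure.t.IsGE T'.invRotate.obj₁ 1 := this
    rw [ha, TStructure.t.zero a 0 1, zero_comp]
    rfl
  have hepi : Epi q := by
    refine Preadditive.epi_of_cancel_zero _ fun {K} k hk => S.map_injective ?_
    rw [Functor.map_zero]
    obtain ⟨a, ha⟩ := Triangle.yoneda_exact₃ _ hT' (S.map k)
      (show S.map q ≫ S.map k = 0 by rw [← Functor.map_comp, hk, Functor.map_zero])
    have : TStructure.t.IsLE ((S.obj F)⟦(1 : ℤ)⟧) (-1) := TStructure.t.isLE_shift (S.obj F) 0 1 (-1)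
    have : TStructure.t.IsLE (T'.obj₁⟦(1 : ℤ)⟧) (-1) := this
    rw [ha, TStructure.t.zero a (-1) 0, comp_zero]
    rfl
  have hex : (ShortComplex.mk i q w₀).Exact := by
    refine ShortComplex.exact_of_f_is_kernel _ (KernelFork.IsLimit.ofι' i w₀ fun {K} k hk => ?_)
    have hh := Triangle.coyoneda_exact₂ _ hT' (S.map k)
      (show S.map k ≫ S.map q = 0 by rw [← Functor.map_comp, hk, Functor.map_zero])
    refine ⟨S.preimage hh.choose, S.map_injective ?_⟩
    rw [Functor.map_comp, Functor.map_preimage]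
    exact hh.choose_spec.symm
  have hS : (ShortComplex.mk i q w₀).ShortExact :=
    { exact := hex, mono_f := hmono, epi_g := hepi }
  refine ⟨X, i, q, w₀, hS, Ext.ext ?_⟩
  obtain ⟨θ, h1, h2⟩ := complete_distinguished_triangle_morphism T' hS.singleTriangle hT'
    hS.singleTriangle_distinguished (𝟙 (S.obj F)) (𝟙 (S.obj X)) ((Category.comp_id (S.map i)).trans (Category.id_comp (S.map i)).symm)
  obtain ⟨t, rfl⟩ : ∃ t : Q ⟶ Q, S.map t = θ := ⟨S.preimage θ, S.map_preimage θ⟩
  have hq : S.map q ≫ S.map t = S.map q := h1.trans (Category.id_comp _)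
  rw [← Functor.map_comp] at hq
  have ht : t = 𝟙 Q := by rw [← cancel_epi q, Category.comp_id]; exact S.map_injective hq
  rw [ShortComplex.ShortExact.extClass_hom]
  subst ht
  have h3 : ξ.hom ≫ (shiftFunctor _ (1 : ℤ)).map (𝟙 (S.obj F)) = S.map (𝟙 Q) ≫ hS.singleδ := h2
  rw [CategoryTheory.Functor.map_id, CategoryTheory.Functor.map_id, Category.id_comp] at h3
  replace h3 : ξ.hom = hS.singleδ := (Category.comp_id _).symm.trans h3
  exact h3.symm

theorem exists_map_of_extClass_comp [HasExt.{v'} C] {S₁ S₂ : ShortComplex C} (h₁ : S₁.ShortExact) (h₂ : S₂.ShortExact)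
    (b : S₁.X₁ ⟶ S₂.X₁) (c : S₁.X₃ ⟶ S₂.X₃)
    (h : h₁.extClass.comp (Ext.mk₀ b) (add_zero 1) = (Ext.mk₀ c).comp h₂.extClass (zero_add 1)) :
    ∃ p : S₁.X₂ ⟶ S₂.X₂, S₁.f ≫ p = b ≫ S₂.f ∧ p ≫ S₂.g = S₁.g ≫ c := by
  let := HasDerivedCategory.standard C
  let S := singleFunctor C 0
  have h' : h₁.singleδ ≫ (shiftFunctor _ (1 : ℤ)).map (S.map b) = S.map c ≫ h₂.singleδ := by
    have := congrArg Ext.hom h
    simpa [S, Ext.comp_hom, Ext.mk₀_hom, ShiftedHom.comp_mk₀, ShiftedHom.mk₀_comp] using this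
  obtain ⟨β, e1, e2⟩ := complete_distinguished_triangle_morphism₂ h₁.singleTriangle h₂.singleTriangle
    h₁.singleTriangle_distinguished h₂.singleTriangle_distinguished (S.map b) (S.map c) h'
  obtain ⟨p, rfl⟩ : ∃ p, S.map p = β := ⟨S.preimage β, S.map_preimage β⟩
  have e1' : S.map S₁.f ≫ S.map p = S.map b ≫ S.map S₂.f := e1
  have e2' : S.map S₁.g ≫ S.map c = S.map p ≫ S.map S₂.g := e2
  rw [← Functor.map_comp, ← Functor.map_comp] at e1' e2'
  exact ⟨p, S.map_injective e1', (S.map_injective e2').symm⟩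

end Groth.Agent.H28Alg
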