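import Mathlib.LinearAlgebra.Matrix.DotProduct
import Mathlib.LinearAlgebra.Matrix.Symmetric
import Mathlib.Data.Matrix.Mul
import Mathlib.Data.Real.Basic
import Mathlib.Algebra.BigOperators.Ring.Finset
import Mathlib.Tactic.Ring
import Mathlib.Tactic.Linarith
import Mathlib.Tactic.FieldSimp

/-! Quadratic forms of symmetric matrices with non-negative off-diagonal entries. -/

open Finset Matrix

namespace Groth.Agent.H28Alg

variable {ι : Type*} [Fintype ι]

theorem quad_identity (B : Matrix ι ι ℝ) (hB : B.IsSymm) (y : ι → ℝ) :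
    2 * ∑ i, ∑ j, B i j * y i * y j =
      2 * ∑ i, (∑ j, B i j) * y i ^ 2 - ∑ i, ∑ j, B i j * (y i - y j) ^ 2 := by
  have h1 : ∑ i, ∑ j, B i j * y j ^ 2 = ∑ i, (∑ j, B i j) * y i ^ 2 := by
    rw [sum_comm]
    refine sum_congr rfl fun j _ => ?_
    rw [sum_mul]
    exact sum_congr rfl fun i _ => by rw [hB.apply]
  have h2 : ∑ i, ∑ j, B i j * y i ^ 2 = ∑ i, (∑ j, B i j) * y i ^ 2 :=
    sum_congr rfl fun i _ => by rw [sum_mul]
  have h3 : ∑ i, ∑ j, B i j * (y i - y j) ^ 2 =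
      (∑ i, ∑ j, B i j * y i ^ 2) + (∑ i, ∑ j, B i j * y j ^ 2) - 2 * ∑ i, ∑ j, B i j * y i * y j := by
    simp only [mul_sum, ← sum_add_distrib, ← sum_sub_distrib]
    exact sum_congr rfl fun i _ => sum_congr rfl fun j _ => by ring
  rw [h3, h1, h2]; ring

variable (A : Matrix ι ι ℝ) (m : ι → ℝ)

/-- The scaled matrix `mᵢ Aᵢⱼ mⱼ`. -/
def scaled : Matrix ι ι ℝ := fun i j => m i * A i j * m j

theorem scaled_rowSum (i : ι) : ∑ j, scaled A m i j = m i * A.mulVec m i := by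
  simp [scaled, Matrix.mulVec, dotProduct, mul_sum, mul_assoc]

theorem dotProduct_eq_scaled (hm : ∀ i, m i ≠ 0) (x : ι → ℝ) :
    dotProduct x (A.mulVec x) = ∑ i, ∑ j, scaled A m i j * (x i / m i) * (x j / m j) := by
  simp only [dotProduct, Matrix.mulVec, mul_sum, scaled]
  refine sum_congr rfl fun i _ => sum_congr rfl fun j _ => ?_
  have := hm i
  have := hm j
  field_simp

variable {A m} (hsymm : A.IsSymm) (hA : ∀ i j, i ≠ j → 0 ≤ A i j) (hm : ∀ i, 0 < m i)
  (hAm : ∀ i, A.mulVec m i ≤ 0)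

include hsymm hA hm hAm

theorem scaled_facts (x : ι → ℝ) :
    dotProduct x (A.mulVec x) ≤ 0 ∧
    (dotProduct x (A.mulVec x) = 0 →
      (∀ i j, i ≠ j → A i j ≠ 0 → x i / m i = x j / m j) ∧ (∀ i, A.mulVec m i = 0 ∨ x i = 0)) := by
  set y := fun i => x i / m i
  have hsymB : (scaled A m).IsSymm := Matrix.IsSymm.ext fun i j => by
    simp only [scaled, hsymm.apply]; ring
  have hq := quad_identity (scaled A m) hsymB y
  rw [← dotProduct_eq_scaled A m (fun i => (hm i).ne') x] at hq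
  have hoff : ∀ i j, 0 ≤ scaled A m i j * (y i - y j) ^ 2 := fun i j => by
    rcases eq_or_ne i j with rfl | hij
    · simp
    · exact mul_nonneg (mul_nonneg (mul_nonneg (hm i).le (hA i j hij)) (hm j).le) (sq_nonneg _)
  have hdiag : ∀ i, (∑ j, scaled A m i j) * y i ^ 2 ≤ 0 := fun i => by
    rw [scaled_rowSum]
    exact mul_nonpos_of_nonpos_of_nonneg (mul_nonpos_of_nonneg_of_nonpos (hm i).le (hAm i)) (sq_nonneg _)
  have hs1 : 0 ≤ ∑ i, ∑ j, scaled A m i j * (y i - y j) ^ 2 :=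
    sum_nonneg fun i _ => sum_nonneg fun j _ => hoff i j
  have hs2 : ∑ i, (∑ j, scaled A m i j) * y i ^ 2 ≤ 0 := sum_nonpos fun i _ => hdiag i
  refine ⟨by linarith, fun h0 => ⟨fun i j hij hne => ?_, fun i => ?_⟩⟩
  · have hz : ∑ i, ∑ j, scaled A m i j * (y i - y j) ^ 2 = 0 := by linarith
    have h1 := (sum_eq_zero_iff_of_nonneg fun i _ => sum_nonneg fun j _ => hoff i j).mp hz i (mem_univ i)
    have h2 := (sum_eq_zero_iff_of_nonneg fun j _ => hoff i j).mp h1 j (mem_univ j)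
    have hB : scaled A m i j ≠ 0 := mul_ne_zero (mul_ne_zero (hm i).ne' hne) (hm j).ne'
    have h3 := pow_eq_zero_iff (two_ne_zero) |>.mp ((mul_eq_zero.mp h2).resolve_left hB)
    exact sub_eq_zero.mp h3
  · have hz : ∑ i, (∑ j, scaled A m i j) * y i ^ 2 = 0 := by linarith
    have h1 := (sum_eq_zero_iff_of_nonpos fun i _ => hdiag i).mp hz i (mem_univ i)
    rw [scaled_rowSum] at h1
    rcases mul_eq_zero.mp h1 with h | h
    · exact .inl ((mul_eq_zero.mp h).resolve_left (hm i).ne')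
    · refine .inr ?_
      have := pow_eq_zero_iff (two_ne_zero) |>.mp h
      simpa [y, (hm i).ne'] using this

end Groth.Agent.H28Alg
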