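import Mathlib.LinearAlgebra.FreeModule.PID
import Mathlib.Data.Nat.Choose.Dvd
import Mathlib.RingTheory.Int.Basic
import Mathlib.Data.Nat.Choose.Sum
import Mathlib.Algebra.BigOperators.NatAntidiagonal
import Mathlib.Algebra.Algebra.Basic
import Mathlib.Algebra.Ring.GeomSum
import Mathlib.GroupTheory.OrderOfElement
import Mathlib.Tactic.LinearCombination
import Mathlib.Tactic.Ring

/-!
# Units congruent to one in a torsion-free finite ring
-/

namespace Groth.Agent.H28Alg

open Finset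

variable {E : Type} [CommRing E]

lemma eq_zero_of_eq_mul [Module.Free ℤ E] (c : ℕ) (hc : 2 ≤ c) (v t : E) (h : v = (c : E) * (v * t)) :
    v = 0 := by
  have hk : ∀ k : ℕ, ∃ s, v = (c : E) ^ k * s := by
    intro k
    induction k with
    | zero => exact ⟨v, by simp⟩
    | succ k ih =>
      obtain ⟨s, hs⟩ := ih
      refine ⟨s * t, ?_⟩
      calc v = (c : E) * (v * t) := h
        _ = (c : E) * (((c : E) ^ k * s) * t) := by rw [← hs]
        _ = _ := by ring
  let b := Module.Free.chooseBasis ℤ E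
  refine b.ext_elem fun i => ?_
  rw [map_zero, Finsupp.zero_apply]
  by_contra hne
  obtain ⟨s, hs⟩ := hk (b.repr v i).natAbs
  set k := (b.repr v i).natAbs with hkdef
  have hdvd : ((c : ℤ) ^ k) ∣ b.repr v i := by
    refine ⟨b.repr s i, ?_⟩
    rw [hs, show (c : E) ^ k * s = ((c : ℤ) ^ k) • s by rw [zsmul_eq_mul]; push_cast; rfl,
      map_smul, Finsupp.smul_apply, smul_eq_mul]
  have h2 := Nat.le_of_dvd (Int.natAbs_pos.2 hne) (Int.natAbs_dvd_natAbs.2 hdvd)
  rw [Int.natAbs_pow, Int.natAbs_natCast, ← hkdef] at h2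
  exact absurd (Nat.lt_pow_self (show 1 < c by omega)) (not_lt.2 h2)

lemma one_add_pow_prime (x : E) {q : ℕ} (hq : q.Prime) :
    ∃ A : E, (1 + x) ^ q = 1 + (q : E) * x + x ^ 2 * ((q : E) * A + x ^ (q - 2)) := by
  obtain ⟨r, rfl⟩ : ∃ r, q = r + 2 := ⟨q - 2, by have := hq.two_le; omega⟩
  refine ⟨∑ k ∈ range r, ((Nat.choose (r + 2) (k + 2) / (r + 2) : ℕ) : E) * x ^ k, ?_⟩
  rw [add_comm (1 : E) x, add_pow, Finset.sum_range_succ, Finset.sum_range_succ', Finset.sum_range_succ',
    Nat.add_sub_cancel]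
  simp only [one_pow, mul_one, Nat.choose_zero_right, pow_zero, Nat.cast_one, zero_add, pow_one,
    Nat.choose_one_right, Nat.choose_self]
  have : ∀ k ∈ range r, x ^ (k + 1 + 1) * ((Nat.choose (r + 2) (k + 1 + 1) : ℕ) : E) =
      x ^ 2 * ((r + 2 : ℕ) * (((Nat.choose (r + 2) (k + 2) / (r + 2) : ℕ) : E) * x ^ k)) := by
    intro k hk
    simp only [Finset.mem_range] at hk
    have hd := hq.dvd_choose_self (k := k + 2) (by omega) (by omega)
    conv_lhs => rw [show k + 1 + 1 = k + 2 from rfl, ← Nat.mul_div_cancel' hd, Nat.cast_mul, pow_add]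
    ring
  rw [Finset.sum_congr rfl this, ← Finset.mul_sum, ← Finset.mul_sum]
  push_cast
  ring

variable [Module.Free ℤ E]

lemma eq_one_of_pow_prime (n : ℕ) (hn : 3 ≤ n) {q : ℕ} (hq : q.Prime) (u : E) (hu : u ^ q = 1)
    (v : E) (hv : 1 - u = (n : E) * v) : u = 1 := by
  suffices h : v = 0 by rw [h, mul_zero, sub_eq_zero] at hv; exact hv.symm
  obtain ⟨A, hA⟩ := one_add_pow_prime (-(n : E) * v) hq
  rw [show (1 : E) + -(n : E) * v = u by linear_combination hv, hu] at hA
  set S := (q : E) * A + (-(n : E) * v) ^ (q - 2) with hS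
  have hcancel : ∀ z : E, (n : E) * z = 0 → z = 0 := fun z hz => by
    have h1 : (n : ℤ) • z = 0 := by rw [natCast_zsmul, nsmul_eq_mul, hz]
    exact (smul_eq_zero.1 h1).resolve_left (by omega)
  have h1 : (q : E) * v = (n : E) * v ^ 2 * S := by
    refine sub_eq_zero.1 (hcancel _ ?_)
    linear_combination hA
  by_cases hqn : q ∣ n
  · obtain ⟨n', rfl⟩ := hqn
    have hq0 : ∀ z : E, (q : E) * z = 0 → z = 0 := fun z hz => by
      have h1 : (q : ℤ) • z = 0 := by rw [natCast_zsmul, nsmul_eq_mul, hz]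
      exact (smul_eq_zero.1 h1).resolve_left (by have := hq.pos; omega)
    have h2 : v = (n' : E) * v ^ 2 * S := by
      refine sub_eq_zero.1 (hq0 _ ?_)
      push_cast at h1
      linear_combination h1
    rcases Nat.lt_or_ge 1 n' with hn' | hn'
    · exact eq_zero_of_eq_mul n' hn' v (v * S) (by linear_combination h2)
    · obtain rfl : n' = 1 := by
        rcases Nat.eq_zero_or_pos n' with h0 | h0
        · subst h0; simp at hn
        · omega
      simp only [Nat.cast_one, one_mul, mul_one] at h2 hS hn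
      obtain ⟨d, hd⟩ : ∃ d, q - 2 = d + 1 := ⟨q - 3, by omega⟩
      rw [hd, pow_succ] at hS
      refine eq_zero_of_eq_mul q hq.two_le v (v * (A - (-(q : E) * v) ^ d * v)) ?_
      rw [hS] at h2
      linear_combination h2
  · obtain ⟨a, b, hab⟩ := Int.isCoprime_iff_gcd_eq_one.2
      (show Int.gcd (q : ℤ) (n : ℤ) = 1 by simpa [Int.gcd_natCast_natCast] using (hq.coprime_iff_not_dvd.2 hqn))
    have hab' : (a : E) * (q : E) + (b : E) * (n : E) = 1 := by
      have := congrArg (fun z : ℤ => (z : E)) hab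
      push_cast at this
      exact this
    exact eq_zero_of_eq_mul n (by omega) v ((a : E) * v * S + (b : E))
      (by linear_combination (a : E) * h1 - v * hab')

lemma eq_one_of_pow (n : ℕ) (hn : 3 ≤ n) : ∀ m : ℕ, 0 < m → ∀ u : E, u ^ m = 1 →
    (∃ v, 1 - u = (n : E) * v) → u = 1 := by
  intro m
  induction m using Nat.strong_induction_on with
  | _ m ih =>
    intro hm u hu ⟨v, hv⟩
    rcases eq_or_ne m 1 with rfl | hm1
    · simpa using hu
    obtain ⟨q, hq, k, rfl⟩ := Nat.exists_prime_and_dvd hm1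
    have hk : 0 < k := by
      rcases Nat.eq_zero_or_pos k with h | h
      · subst h; simp at hm
      · exact h
    refine eq_one_of_pow_prime n hn hq u (ih k (by
      calc k = 1 * k := (one_mul k).symm
        _ < q * k := Nat.mul_lt_mul_of_pos_right hq.one_lt hk) hk (u ^ q) (by rw [← pow_mul, hu]) ?_) v hv
    refine ⟨v * ∑ i ∈ range q, u ^ i, ?_⟩
    have h := geom_sum_mul_neg u q
    rw [← h, hv]; ring

theorem congruent_one (n : ℕ) (hn : 2 ≤ n) (u : E) (m : ℕ) (hm : 0 < m) (hu : u ^ m = 1)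
    (hcong : ∃ v : E, 1 - u = (n : E) * v) : u ^ 2 = 1 ∧ (3 ≤ n → u = 1) := by
  refine ⟨?_, fun h => eq_one_of_pow n h m hm u hu hcong⟩
  rcases Nat.lt_or_ge n 3 with h | h
  · obtain rfl : n = 2 := by omega
    obtain ⟨v, hv⟩ := hcong
    refine eq_one_of_pow 4 (by norm_num) m hm (u ^ 2) (by rw [← pow_mul, mul_comm, pow_mul, hu, one_pow])
      ⟨v - v ^ 2, ?_⟩
    push_cast at hv ⊢
    linear_combination (1 + u + 2 * v - 2 * v) * hv + (2 * v) * (- hv)
  · rw [eq_one_of_pow n h m hm u hu hcong, one_pow]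

end Groth.Agent.H28Alg
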