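import Mathlib.RingTheory.ZariskisMainTheorem
import Mathlib.RingTheory.Ideal.KrullsHeightTheorem
import Mathlib.RingTheory.Ideal.GoingUp

/-!
# Primes over the generic point of the base specializing to a given maximal ideal
-/

namespace Groth.Agent.H28Alg

open Ideal

/-- In a Noetherian domain, if every nonzero prime inside the prime `m` contains `π ≠ 0`,
then `m` is minimal over `(π)`. -/
theorem mem_minimalPrimes_of_forall_mem {B : Type*} [CommRing B] [IsDomain B] [IsNoetherianRing B]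
    (m : Ideal B) [m.IsPrime] {π : B} (hπ0 : π ≠ 0) (hπm : π ∈ m)
    (h : ∀ Q : Ideal B, Q.IsPrime → Q ≤ m → Q ≠ ⊥ → π ∈ Q) :
    m ∈ (Ideal.span {π}).minimalPrimes := by
  classical
  by_contra hm
  let T := (Ideal.span {π}).minimalPrimes
  have hfin : T.Finite := Ideal.finite_minimalPrimes_of_isNoetherianRing B _
  have hnot : ¬ (m : Set B) ⊆ ⋃ J ∈ (↑hfin.toFinset : Set (Ideal B)), (J : Set B) := by
    rw [Ideal.subset_union_prime (f := fun J : Ideal B => J) m m (fun J hJ _ _ => ((Set.Finite.mem_toFinset hfin).1 hJ).1.1)]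
    rintro ⟨J, hJ, hle⟩
    have hJT := (Set.Finite.mem_toFinset hfin).1 hJ
    obtain ⟨T', hT', hT'm⟩ := Ideal.exists_minimalPrimes_le (I := Ideal.span {π}) (J := m)
      ((Ideal.span_singleton_le_iff_mem _).2 hπm)
    have : T' = J := le_antisymm (hT'm.trans hle) (hJT.2 hT'.1 (hT'm.trans hle))
    subst this
    exact hm (le_antisymm hT'm hle ▸ hT')
  obtain ⟨a, ham, ha⟩ := Set.not_subset.1 hnot
  simp only [Set.mem_iUnion, exists_prop, SetLike.mem_coe, not_exists, not_and, Set.Finite.coe_toFinset] at ha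
  obtain ⟨Q, hQ, hQm⟩ := Ideal.exists_minimalPrimes_le (I := Ideal.span {a}) (J := m)
    ((Ideal.span_singleton_le_iff_mem _).2 ham)
  have haQ : a ∈ Q := hQ.1.2 (Ideal.mem_span_singleton_self a)
  have : Q.IsPrime := hQ.1.1
  have ha0 : a ≠ 0 := by
    rintro rfl
    obtain ⟨T', hT', -⟩ := Ideal.exists_minimalPrimes_le (I := Ideal.span {π}) (J := m)
      ((Ideal.span_singleton_le_iff_mem _).2 hπm)
    exact ha T' hT' (zero_mem _)
  have hQ0 : Q ≠ ⊥ := fun e => ha0 (by simpa [e] using haQ)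
  have hπQ := h Q inferInstance hQm hQ0
  obtain ⟨T', hT', hT'Q⟩ := Ideal.exists_minimalPrimes_le (I := Ideal.span {π}) (J := Q)
    ((Ideal.span_singleton_le_iff_mem _).2 hπQ)
  have hTQ : T' = Q := by
    by_contra hne
    have : T'.IsPrime := hT'.1.1
    have hT0 : (⊥ : Ideal B) < T' := bot_lt_iff_ne_bot.2 fun e =>
      hπ0 (by simpa [e] using hT'.1.2 (Ideal.mem_span_singleton_self π))
    have : (Ideal.span {a}).IsPrincipal := ⟨a, rfl⟩
    have h1 := Ideal.height_le_one_of_isPrincipal_of_mem_minimalPrimes _ _ hQ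
    have h2 := Ideal.height_add_one_le_of_lt_of_isPrime (lt_of_le_of_ne hT'Q hne)
    have h3 := Ideal.height_add_one_le_of_lt_of_isPrime hT0
    have h4 : (1 : ℕ∞) ≤ T'.height := le_trans le_add_self h3
    have h5 : (1 : ℕ∞) + 1 ≤ 1 := (add_le_add_left h4 1).trans (h2.trans h1)
    norm_num at h5
  exact ha T' hT' (hTQ ▸ haQ)

/-- Let `B` be a domain of finite type over `R` and `m` a maximal ideal over a maximal ideal of
`R`; if every nonzero prime inside `m` meets `R` nontrivially, then so does every nonzero prime. -/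
theorem comap_ne_bot_of_forall_le {R B : Type*} [CommRing R] [IsDedekindDomain R] [CommRing B] [IsDomain B] [Algebra R B] [Algebra.FiniteType R B]
    (hinj : Function.Injective (algebraMap R B)) (m : Ideal B) [m.IsMaximal]
    [(m.comap (algebraMap R B)).IsMaximal]
    (h : ∀ Q : Ideal B, Q.IsPrime → Q ≤ m → Q ≠ ⊥ → Q.comap (algebraMap R B) ≠ ⊥)
    (Q : Ideal B) [Q.IsPrime] (hQ : Q ≠ ⊥) : Q.comap (algebraMap R B) ≠ ⊥ := by
  classical
  set p := m.comap (algebraMap R B) with hp
  by_cases hp0 : p = ⊥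
  · -- `R` is a field
    have hm0 : m = ⊥ := by
      by_contra hm
      exact h m inferInstance le_rfl hm hp0
    subst hm0
    exact absurd (le_antisymm ((Ideal.IsMaximal.eq_of_le ‹_› ‹Q.IsPrime›.ne_top bot_le).ge) bot_le)
      hQ
  obtain ⟨r, hrp, hr0⟩ := Submodule.exists_mem_ne_zero_of_ne_bot hp0
  set π := algebraMap R B r
  have : IsNoetherianRing B := Algebra.FiniteType.isNoetherianRing R B
  have hmin : m ∈ (Ideal.span {π}).minimalPrimes := by
    refine mem_minimalPrimes_of_forall_mem m ((map_ne_zero_iff _ hinj).2 hr0) hrp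
      fun P hP hPm hP0 => ?_
    have : (P.comap (algebraMap R B)).IsMaximal :=
      (Ideal.IsPrime.comap _).isMaximal (h P hP hPm hP0)
    have : P.comap (algebraMap R B) = p :=
      this.eq_of_le (Ideal.IsMaximal.ne_top inferInstance) (Ideal.comap_mono hPm)
    exact this.ge hrp
  let M : PrimeSpectrum B := ⟨m, inferInstance⟩
  let J := p.map (algebraMap R B)
  have hJm : J ≤ m := Ideal.map_comap_le
  have hπJ : Ideal.span {π} ≤ J :=
    (Ideal.span_singleton_le_iff_mem _).2 (Ideal.mem_map_of_mem _ hrp)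
  have hmJ : m ∈ J.minimalPrimes :=
    ⟨⟨inferInstance, hJm⟩, fun P hP hPm => hmin.2 ⟨hP.1, hπJ.trans hP.2⟩ hPm⟩
  have hfin : J.minimalPrimes.Finite := Ideal.finite_minimalPrimes_of_isNoetherianRing B _
  have hex : ∀ P ∈ J.minimalPrimes \ {m}, ∃ g ∈ P, g ∉ m := fun P hP =>
    SetLike.not_le_iff_exists.1 fun hPm =>
      hP.2 (le_antisymm hPm (hmJ.2 hP.1.1 hPm))
  choose g hgP hgm using hex
  let G := ∏ P ∈ (hfin.sdiff (t := {m})).toFinset.attach,
    g P.1 ((Set.Finite.mem_toFinset _).1 P.2)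
  have hG : G ∉ m := fun hG => by
    obtain ⟨P, -, hP⟩ := Ideal.IsPrime.prod_mem_iff.1 hG
    exact hgm _ _ hP
  have hqf : Algebra.QuasiFiniteAt R m := by
    refine Algebra.QuasiFiniteAt.of_isOpen_singleton_fiber M ?_
    rw [isOpen_induced_iff]
    refine ⟨PrimeSpectrum.basicOpen G, (PrimeSpectrum.basicOpen G).2, ?_⟩
    ext ⟨P, hP⟩
    simp only [Set.mem_preimage, SetLike.mem_coe, Set.mem_singleton_iff]
    rw [Subtype.ext_iff]
    constructor
    · intro hGP
      have hPJ : J ≤ P.asIdeal :=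
        Ideal.map_le_iff_le_comap.2 (le_of_eq (congrArg PrimeSpectrum.asIdeal hP).symm)
      obtain ⟨T, hT, hTP⟩ := Ideal.exists_minimalPrimes_le hPJ
      by_cases hTm : T = m
      · subst hTm
        exact PrimeSpectrum.ext (Ideal.IsMaximal.eq_of_le ‹_› P.2.ne_top hTP).symm
      · refine absurd (hTP ?_) (PrimeSpectrum.mem_basicOpen _ _ |>.1 hGP)
        let T' : {x // x ∈ (hfin.sdiff (t := {m})).toFinset} :=
          ⟨T, (Set.Finite.mem_toFinset _).2 ⟨hT, hTm⟩⟩
        exact Ideal.prod_mem _ (Finset.mem_attach _ T') (hgP T ⟨hT, hTm⟩)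
    · intro e
      obtain rfl : P = M := e
      exact hG
  obtain ⟨t, htm, ht⟩ := Algebra.zariskisMainProperty_iff'.1
    (Algebra.ZariskisMainProperty.of_finiteType (R := R) m)
  obtain ⟨x, hxQ, hx0⟩ := Submodule.exists_mem_ne_zero_of_ne_bot hQ
  obtain ⟨n, hn⟩ := ht x
  have ht0 : t ≠ 0 := fun e => htm (e ▸ zero_mem _)
  exact Ideal.comap_ne_bot_of_integral_mem (mul_ne_zero (pow_ne_zero _ ht0) hx0)
    (Q.mul_mem_left _ hxQ) hn

end Groth.Agent.H28Alg
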