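import Groth.Agent.S0226
import Groth.Agent.H4Depth.Regular
import Mathlib.RingTheory.UniqueFactorizationDomain.Kaplansky
import Mathlib.RingTheory.Ideal.KrullsHeightTheorem
import Mathlib.RingTheory.Length
import Mathlib.RingTheory.Coprime.Lemmas

/-!
# Two-dimensional regular local rings: factoriality and additivity of local intersection numbers
-/

namespace Groth.Agent.H28Alg

universe u

variable {A : Type u} [CommRing A] [IsRegularLocalRing A]

open IsLocalRing

theorem ufd_of_dim_two (hA : ringKrullDim A = 2) [IsDomain A] : UniqueFactorizationMonoid A := by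
  rw [UniqueFactorizationMonoid.iff_exists_prime_mem_of_isPrime]
  suffices h : ∀ I ≠ (⊥ : Ideal A), I.IsPrime → I ≠ maximalIdeal A → ∃ x ∈ I, Prime x by
    intro I hI hIp
    by_cases hIm : I = maximalIdeal A
    · obtain ⟨x, hxI, hx0⟩ := Submodule.exists_mem_ne_zero_of_ne_bot hI
      obtain ⟨P, hP, hPI⟩ := Ideal.exists_minimalPrimes_le ((Ideal.span_singleton_le_iff_mem I).2 hxI)
      have hPp : P.IsPrime := hP.1.1
      have hP0 : P ≠ ⊥ := fun h0 => hx0 (by simpa [h0] using hP.1.2 (Ideal.mem_span_singleton_self x))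
      have hh : P.height ≤ 1 := Ideal.height_le_one_of_isPrincipal_of_mem_minimalPrimes (Ideal.span {x}) P hP
      have hPm : P ≠ maximalIdeal A := by
        intro e
        subst e
        have h2 := IsLocalRing.maximalIdeal_height_eq_ringKrullDim (R := A)
        rw [hA] at h2
        have h3 : (maximalIdeal A).height = 2 := WithBot.coe_injective h2
        rw [h3] at hh
        exact absurd hh (by decide)
      obtain ⟨y, hy, hy'⟩ := h P hP0 hPp hPm
      exact ⟨y, hPI hy, hy'⟩
    · exact h I hI hIp hIm
  intro I hI hIp hIm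
  have : IsDomain (A ⧸ I) := inferInstance
  rcases S0226.result A hA I (IsLocalRing.le_maximalIdeal hIp.ne_top) with h | h | ⟨f, -, hf0, hf⟩
  · exact absurd h hI
  · exact absurd h hIm
  · refine ⟨f, hf ▸ Ideal.mem_span_singleton_self f, (Ideal.span_singleton_prime hf0).1 (hf ▸ hIp)⟩

theorem dvd_of_dvd_mul (hA : ringKrullDim A = 2) {g f b : A} (h : IsRelPrime g f) (hd : g ∣ f * b) : g ∣ b := by
  have := Groth.Agent.H4Depth.isDomain_of_isRegularLocalRing A
  have := ufd_of_dim_two hA
  exact h.dvd_of_dvd_mul_left hd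

theorem prod_dvd_of_relPrime (hA : ringKrullDim A = 2) {n : ℕ} (f : Fin n → A)
    (hcop : ∀ i j, i ≠ j → IsRelPrime (f i) (f j)) (c : A) (h : ∀ i, f i ∣ c) : ∏ i, f i ∣ c := by
  have := Groth.Agent.H4Depth.isDomain_of_isRegularLocalRing A
  have := ufd_of_dim_two hA
  exact Finset.prod_dvd_of_isRelPrime (fun i _ j _ hij => hcop i j hij) (fun i _ => h i)

theorem relPrime_prod (hA : ringKrullDim A = 2) {n : ℕ} (g : A) (f : Fin n → A)
    (hcop : ∀ i, IsRelPrime g (f i)) : IsRelPrime g (∏ i, f i) := by
  have := Groth.Agent.H4Depth.isDomain_of_isRegularLocalRing A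
  have := ufd_of_dim_two hA
  exact IsRelPrime.prod_right fun i _ => hcop i

theorem length_mul (hA : ringKrullDim A = 2) (f g h : A) (hfg : IsRelPrime f g) :
    Module.length A (A ⧸ Ideal.span ({f * h, g} : Set A)) =
      Module.length A (A ⧸ Ideal.span ({f, g} : Set A)) + Module.length A (A ⧸ Ideal.span ({h, g} : Set A)) := by
  set J := Ideal.span ({h, g} : Set A) with hJ
  set I := Ideal.span ({f * h, g} : Set A) with hI
  set K := Ideal.span ({f, g} : Set A) with hK
  have h1 : J ≤ Submodule.comap (LinearMap.mulLeft A f) I := by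
    rw [hJ, Ideal.span_le]
    rintro x (rfl | rfl)
    · exact Ideal.subset_span (by simp)
    · exact I.mul_mem_left f (Ideal.subset_span (by simp))
  have h2 : I ≤ Submodule.comap LinearMap.id K := by
    rw [hI, Ideal.span_le]
    rintro x (rfl | rfl)
    · exact K.mul_mem_right h (Ideal.subset_span (by simp))
    · exact Ideal.subset_span (by simp)
  let φ := Submodule.mapQ J I (LinearMap.mulLeft A f) h1
  let ψ := Submodule.mapQ I K LinearMap.id h2
  have hinj : Function.Injective φ := by
    rw [← LinearMap.ker_eq_bot, eq_bot_iff]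
    intro z hz
    obtain ⟨b, rfl⟩ := Submodule.mkQ_surjective J z
    have hb : f * b ∈ I := by
      rw [LinearMap.mem_ker, Submodule.mkQ_apply, Submodule.mapQ_apply, Submodule.Quotient.mk_eq_zero] at hz
      exact hz
    obtain ⟨x, y, hxy⟩ := Ideal.mem_span_pair.1 hb
    obtain ⟨w, hw⟩ := dvd_of_dvd_mul hA hfg.symm (show g ∣ f * (b - x * h) from ⟨y, by linear_combination -hxy⟩)
    rw [Submodule.mem_bot, Submodule.mkQ_apply, Submodule.Quotient.mk_eq_zero]
    exact Ideal.mem_span_pair.2 ⟨x, w, by linear_combination -hw⟩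
  have hsurj : Function.Surjective ψ := fun z => by
    obtain ⟨b, rfl⟩ := Submodule.mkQ_surjective K z
    exact ⟨Submodule.Quotient.mk b, by simp [ψ]⟩
  have hex : Function.Exact φ ψ := fun z => by
    obtain ⟨b, rfl⟩ := Submodule.mkQ_surjective I z
    constructor
    · intro hb
      have hb' : b ∈ K := by
        rw [Submodule.mkQ_apply, Submodule.mapQ_apply, Submodule.Quotient.mk_eq_zero] at hb
        exact hb
      obtain ⟨x, y, hxy⟩ := Ideal.mem_span_pair.1 hb'
      refine ⟨Submodule.Quotient.mk x, ?_⟩
      simp only [φ, Submodule.mapQ_apply, Submodule.mkQ_apply, Submodule.Quotient.eq]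
      exact Ideal.mem_span_pair.2 ⟨0, -y, by simp; linear_combination -hxy⟩
    · rintro ⟨x, hx⟩
      obtain ⟨x, rfl⟩ := Submodule.mkQ_surjective J x
      rw [← hx]
      simp only [φ, ψ, Submodule.mapQ_apply, Submodule.mkQ_apply, LinearMap.id_apply,
        Submodule.Quotient.mk_eq_zero]
      exact K.mul_mem_right x (Ideal.subset_span (by simp))
  rw [Module.length_eq_add_of_exact φ ψ hinj hsurj hex, add_comm]

theorem length_prod (hA : ringKrullDim A = 2) (g : A) :
    ∀ {n : ℕ} (f : Fin n → A), (∀ i, IsRelPrime (f i) g) →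
      Module.length A (A ⧸ Ideal.span ({∏ i, f i, g} : Set A)) =
        ∑ i, Module.length A (A ⧸ Ideal.span ({f i, g} : Set A))
  | 0, f, _ => by
    have : Ideal.span ({∏ i, f i, g} : Set A) = ⊤ :=
      Ideal.eq_top_of_isUnit_mem _ (Ideal.subset_span (Set.mem_insert _ _)) (by simp)
    have : Subsingleton (A ⧸ Ideal.span ({∏ i, f i, g} : Set A)) := by
      rw [Submodule.Quotient.subsingleton_iff]; exact this
    simp [Module.length_eq_zero]
  | n + 1, f, h => by
    rw [Fin.prod_univ_succ, length_mul hA _ _ _ (h 0), length_prod hA g _ (fun i => h i.succ),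
      Fin.sum_univ_succ]

/-- The diagonal map into the product of the quotients. -/
def diag {n : ℕ} (f : Fin n → A) : A →ₗ[A] ((i : Fin n) → A ⧸ Ideal.span {f i}) :=
  LinearMap.pi fun i => (Ideal.span {f i}).mkQ

lemma diag_apply {n : ℕ} (f : Fin n → A) (c : A) (i : Fin n) :
    diag f c i = Submodule.Quotient.mk c := rfl

theorem length_coker (hA : ringKrullDim A = 2) :
    ∀ {n : ℕ} (f : Fin n → A), (∀ i j, i ≠ j → IsRelPrime (f i) (f j)) →
      Module.length A (((i : Fin n) → A ⧸ Ideal.span {f i}) ⧸ LinearMap.range (diag f)) =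
        ∑ i : Fin n, ∑ j : Fin n, if i < j then Module.length A (A ⧸ Ideal.span ({f i, f j} : Set A)) else 0
  | 0, f, _ => by simp [Module.length_eq_zero]
  | n + 1, f, hcop => by
    set f' : Fin n → A := fun i => f i.succ with hf'
    let tail : ((i : Fin (n + 1)) → A ⧸ Ideal.span {f i}) →ₗ[A] ((i : Fin n) → A ⧸ Ideal.span {f' i}) :=
      LinearMap.pi fun i => LinearMap.proj (i.succ)
    let π := Submodule.mapQ (LinearMap.range (diag f)) (LinearMap.range (diag f')) tail (by
      rintro _ ⟨c, rfl⟩; exact ⟨c, rfl⟩)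
    let ι0 : A →ₗ[A] ((i : Fin (n + 1)) → A ⧸ Ideal.span {f i}) ⧸ LinearMap.range (diag f) :=
      (LinearMap.range (diag f)).mkQ ∘ₗ LinearMap.single A _ (0 : Fin (n + 1)) ∘ₗ (Ideal.span {f 0}).mkQ
    have hsing : ∀ (a : A) (i : Fin n),
        (LinearMap.single A (fun i => A ⧸ Ideal.span {f i}) (0 : Fin (n + 1))
          ((Ideal.span {f 0}).mkQ a) : (i : Fin (n + 1)) → A ⧸ Ideal.span {f i}) i.succ = 0 := fun a i => by
      rw [LinearMap.single_apply, Pi.single_eq_of_ne (Fin.succ_ne_zero i)]
    have hker : Ideal.span ({f 0, ∏ i, f' i} : Set A) ≤ LinearMap.ker ι0 := by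
      rw [Ideal.span_le]
      rintro x (rfl | rfl)
      · simp only [SetLike.mem_coe, LinearMap.mem_ker, ι0, LinearMap.comp_apply, Submodule.mkQ_apply,
          Submodule.Quotient.mk_eq_zero]
        rw [(Submodule.Quotient.mk_eq_zero _).2 (Ideal.mem_span_singleton_self (f 0)), map_zero]
        exact Submodule.zero_mem _
      · simp only [SetLike.mem_coe, LinearMap.mem_ker, ι0, LinearMap.comp_apply, Submodule.mkQ_apply,
          Submodule.Quotient.mk_eq_zero]
        refine ⟨∏ i, f' i, funext fun i => ?_⟩
        cases i using Fin.cases with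
        | zero => rw [LinearMap.single_apply, Pi.single_eq_same]; rfl
        | succ i =>
          refine Eq.trans ?_ (hsing _ i).symm
          exact (Submodule.Quotient.mk_eq_zero _).2
            (Ideal.mem_span_singleton.2 (Finset.dvd_prod_of_mem f' (Finset.mem_univ i)))
    let ι := Submodule.liftQ _ ι0 hker
    have hinj : Function.Injective ι := by
      rw [← LinearMap.ker_eq_bot, eq_bot_iff]
      intro z hz
      obtain ⟨a, rfl⟩ := Submodule.mkQ_surjective _ z
      rw [LinearMap.mem_ker, Submodule.mkQ_apply, Submodule.liftQ_apply] at hz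
      simp only [ι0, LinearMap.comp_apply, Submodule.mkQ_apply, Submodule.Quotient.mk_eq_zero] at hz
      obtain ⟨c, hc⟩ := hz
      have hc' : ∀ i, f' i ∣ c := fun i => by
        have := (congrFun hc i.succ).trans (hsing a i)
        rwa [diag_apply, Submodule.Quotient.mk_eq_zero, Ideal.mem_span_singleton] at this
      have h0 := congrFun hc 0
      rw [diag_apply, LinearMap.single_apply, Pi.single_eq_same, eq_comm, Submodule.Quotient.eq,
        Ideal.mem_span_singleton] at h0
      rw [Submodule.mem_bot, Submodule.mkQ_apply, Submodule.Quotient.mk_eq_zero]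
      obtain ⟨w, hw⟩ := h0
      obtain ⟨v, hv⟩ := prod_dvd_of_relPrime hA f'
        (fun i j hij => hcop _ _ (fun e => hij (Fin.succ_injective _ e))) c hc'
      exact Ideal.mem_span_pair.2 ⟨w, v, by linear_combination -hw - hv⟩
    have hsurj : Function.Surjective π := fun z => by
      obtain ⟨y, rfl⟩ := Submodule.mkQ_surjective _ z
      refine ⟨Submodule.Quotient.mk (Fin.cons 0 y), ?_⟩
      simp only [π, Submodule.mapQ_apply, Submodule.mkQ_apply]
      congr 1
    have hex : Function.Exact ι π := fun z => by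
      constructor
      · intro hz
        obtain ⟨x, rfl⟩ := Submodule.mkQ_surjective _ z
        simp only [π, Submodule.mapQ_apply, Submodule.mkQ_apply, Submodule.Quotient.mk_eq_zero] at hz
        obtain ⟨c, hc⟩ := hz
        obtain ⟨a, ha⟩ := Submodule.mkQ_surjective _ (x 0)
        refine ⟨Submodule.Quotient.mk (a - c), ?_⟩
        simp only [ι, Submodule.liftQ_apply, ι0, LinearMap.comp_apply, Submodule.mkQ_apply,
          Submodule.Quotient.eq]
        refine ⟨-c, funext fun i => ?_⟩
        cases i using Fin.cases with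
        | zero =>
          rw [diag_apply, Pi.sub_apply, LinearMap.single_apply, Pi.single_eq_same, Submodule.Quotient.mk_sub,
            ← Submodule.mkQ_apply _ a, ha, Submodule.Quotient.mk_neg]
          abel
        | succ i =>
          have := congrFun hc i
          rw [diag_apply, Pi.sub_apply, ← Submodule.mkQ_apply _ (a - c), hsing, zero_sub,
            Submodule.Quotient.mk_neg, show x i.succ = Submodule.Quotient.mk c from this.symm]
      · rintro ⟨a, rfl⟩
        obtain ⟨a, rfl⟩ := Submodule.mkQ_surjective _ a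
        simp only [ι, π, Submodule.liftQ_apply, Submodule.mkQ_apply, ι0, LinearMap.comp_apply,
          Submodule.mapQ_apply, Submodule.Quotient.mk_eq_zero]
        exact ⟨0, funext fun i => (hsing a i).symm.trans rfl⟩
    rw [Module.length_eq_add_of_exact ι π hinj hsurj hex,
      length_coker hA f' (fun i j hij => hcop _ _ (fun e => hij (Fin.succ_injective _ e))),
      Fin.sum_univ_succ]
    congr 1
    · rw [Set.pair_comm, length_prod hA _ _ (fun i => hcop _ _ (Fin.succ_ne_zero i)), Fin.sum_univ_succ,
        if_neg (lt_irrefl _), zero_add]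
      refine Finset.sum_congr rfl fun i _ => ?_
      rw [if_pos (Fin.succ_pos i), Set.pair_comm]
    · refine Finset.sum_congr rfl fun i _ => ?_
      rw [Fin.sum_univ_succ, if_neg (by simp), zero_add]
      refine Finset.sum_congr rfl fun j _ => ?_
      simp only [Fin.succ_lt_succ_iff]; rfl

end Groth.Agent.H28Alg
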