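import Mathlib.LinearAlgebra.Matrix.Symmetric
import Mathlib.LinearAlgebra.Matrix.ToLin
import Mathlib.Data.Matrix.ColumnRowPartitioned
import Mathlib.Data.Matrix.Block
import Mathlib.Data.Matrix.Mul
import Mathlib.Tactic.Linarith
import Mathlib.Tactic.Abel
import Mathlib.Tactic.LinearCombination

/-!
# A pair of positive semidefinite forms with `M χ₂ = N χ₁`
-/

namespace Groth.Agent.H28Alg

open Matrix

variable {ι : Type} [Fintype ι] [DecidableEq ι]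

lemma symm_dot {M : Matrix ι ι ℤ} (hM : M.IsSymm) (u v : ι → ℤ) : u ⬝ᵥ M *ᵥ v = v ⬝ᵥ M *ᵥ u := by
  rw [Matrix.dotProduct_mulVec, ← Matrix.mulVec_transpose, hM.eq, dotProduct_comm]

theorem idem_pair (M N χ₁ χ₂ : Matrix ι ι ℤ) (hM : M.IsSymm) (hN : N.IsSymm)
    (hMpos : ∀ v : ι → ℤ, 0 ≤ v ⬝ᵥ M.mulVec v) (hNpos : ∀ v : ι → ℤ, 0 ≤ v ⬝ᵥ N.mulVec v)
    (hpos : ∀ v : ι → ℤ, v ≠ 0 → 0 < v ⬝ᵥ (M + N).mulVec v)
    (hsum : χ₁ + χ₂ = 1) (hrel : M * χ₂ = N * χ₁) :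
    χ₁ * χ₁ = χ₁ ∧ χ₂ * χ₂ = χ₂ := by
  have h2 : χ₂ = 1 - χ₁ := eq_sub_of_add_eq' hsum
  have h1 : χ₁ = 1 - χ₂ := eq_sub_of_add_eq hsum
  have hP1 : (M + N) * χ₁ = M := by
    calc (M + N) * χ₁ = M * χ₁ + N * χ₁ := add_mul _ _ _
      _ = M * χ₁ + M * χ₂ := by rw [hrel]
      _ = M := by rw [← mul_add, hsum, mul_one]
  have hP2 : (M + N) * χ₂ = N := by
    calc (M + N) * χ₂ = M * χ₂ + N * χ₂ := add_mul _ _ _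
      _ = N * χ₁ + N * χ₂ := by rw [hrel]
      _ = N := by rw [← mul_add, hsum, mul_one]
  have hP : (M + N).IsSymm := hM.add hN
  have hcomm : χ₁ * χ₂ = χ₂ * χ₁ := by rw [h2, mul_sub, sub_mul, mul_one, one_mul]
  -- one projection step
  have step : ∀ (A B : Matrix ι ι ℤ), A.IsSymm → (∀ v, 0 ≤ v ⬝ᵥ A *ᵥ v) → (∀ v, 0 ≤ v ⬝ᵥ B *ᵥ v) →
      A + B = M + N → ∀ χ, (M + N) * χ = A → ∀ v, (χ *ᵥ v) ⬝ᵥ (M + N) *ᵥ (χ *ᵥ v) ≤ v ⬝ᵥ A *ᵥ v := by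
    intro A B hA hA0 hB0 hAB χ hχ v
    have e1 : (χ *ᵥ v) ⬝ᵥ (M + N) *ᵥ (χ *ᵥ v) = (χ *ᵥ v) ⬝ᵥ A *ᵥ v := by
      rw [mulVec_mulVec, hχ]
    have e2 : (χ *ᵥ v) ⬝ᵥ A *ᵥ (χ *ᵥ v) ≤ (χ *ᵥ v) ⬝ᵥ (M + N) *ᵥ (χ *ᵥ v) := by
      rw [← hAB, add_mulVec, dotProduct_add]; linarith [hB0 (χ *ᵥ v)]
    have e3 := hA0 (v - χ *ᵥ v)
    rw [mulVec_sub, dotProduct_sub, sub_dotProduct, sub_dotProduct, symm_dot hA v (χ *ᵥ v)] at e3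
    linarith
  have s1 := step M N hM hMpos hNpos rfl χ₁ hP1
  have s2 := step N M hN hNpos hMpos (add_comm N M) χ₂ hP2
  have hK : ∀ k : ℕ, ∀ v : ι → ℤ, (v ⬝ᵥ (M + N) *ᵥ v).toNat = k → (χ₁ * χ₂) *ᵥ v = 0 := by
    intro k
    induction k using Nat.strong_induction_on with
    | _ k ih =>
      intro v hv
      rcases eq_or_ne v 0 with rfl | hv0
      · rw [mulVec_zero]
      have hq := hpos v hv0
      have hv2 : v ⬝ᵥ (M + N) *ᵥ v = v ⬝ᵥ M *ᵥ v + v ⬝ᵥ N *ᵥ v := by rw [add_mulVec, dotProduct_add]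
      set K := χ₁ * χ₂ with hKdef
      have hdec : 2 * ((K *ᵥ v) ⬝ᵥ (M + N) *ᵥ (K *ᵥ v)) ≤ v ⬝ᵥ (M + N) *ᵥ v := by
        have a1 := s2 (χ₁ *ᵥ v)
        have a2 := s1 (χ₂ *ᵥ v)
        rw [mulVec_mulVec v χ₂ χ₁, ← hcomm] at a1
        rw [mulVec_mulVec v χ₁ χ₂] at a2
        have b1 : (χ₁ *ᵥ v) ⬝ᵥ N *ᵥ (χ₁ *ᵥ v) ≤ (χ₁ *ᵥ v) ⬝ᵥ (M + N) *ᵥ (χ₁ *ᵥ v) := by
          rw [add_mulVec, dotProduct_add]; linarith [hMpos (χ₁ *ᵥ v)]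
        have b2 : (χ₂ *ᵥ v) ⬝ᵥ M *ᵥ (χ₂ *ᵥ v) ≤ (χ₂ *ᵥ v) ⬝ᵥ (M + N) *ᵥ (χ₂ *ᵥ v) := by
          rw [add_mulVec, dotProduct_add]; linarith [hNpos (χ₂ *ᵥ v)]
        have := s1 v
        have := s2 v
        linarith
      have h0 : (0 : ℤ) ≤ (K *ᵥ v) ⬝ᵥ (M + N) *ᵥ (K *ᵥ v) := by
        rw [add_mulVec, dotProduct_add]; linarith [hMpos (K *ᵥ v), hNpos (K *ᵥ v)]
      have hKK := ih ((K *ᵥ v) ⬝ᵥ (M + N) *ᵥ (K *ᵥ v)).toNat (by omega) (K *ᵥ v) rfl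
      by_contra hne
      have hlt := hpos (K *ᵥ v) hne
      have hsymK : ((M + N) * K).IsSymm := by
        have e : (M + N) * K = M - χ₁ᵀ * (M + N) * χ₁ := by
          have t : χ₁ᵀ * (M + N) = M := by
            have := congrArg Matrix.transpose hP1
            rwa [transpose_mul, hP.eq, hM.eq] at this
          rw [t, hKdef, h2, ← mul_assoc, hP1, mul_sub, mul_one]
        rw [e]
        refine hM.sub ?_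
        show (χ₁ᵀ * (M + N) * χ₁)ᵀ = _
        rw [transpose_mul, transpose_mul, transpose_transpose, hP.eq, mul_assoc]
      have h3 : (K *ᵥ v) ⬝ᵥ (M + N) *ᵥ (K *ᵥ v) = v ⬝ᵥ (M + N) *ᵥ (K *ᵥ (K *ᵥ v)) := by
        rw [mulVec_mulVec v (M + N) K, symm_dot hsymK, mulVec_mulVec (K *ᵥ v) (M + N) K]
      rw [hKK, mulVec_zero, dotProduct_zero] at h3
      linarith
  have hK0 : χ₁ * χ₂ = 0 := Matrix.ext_iff_mulVec.2 fun v => by rw [hK _ v rfl, zero_mulVec]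
  constructor
  · calc χ₁ * χ₁ = χ₁ * χ₁ + χ₁ * χ₂ := by rw [hK0, add_zero]
      _ = χ₁ := by rw [← mul_add, hsum, mul_one]
  · calc χ₂ * χ₂ = χ₁ * χ₂ + χ₂ * χ₂ := by rw [hK0, zero_add]
      _ = χ₂ := by rw [← add_mul, hsum, one_mul]

end Groth.Agent.H28Alg
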