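import Mathlib.Data.Set.Card
import Mathlib.Algebra.BigOperators.Finprod
import Mathlib.Algebra.BigOperators.Ring.Finset
import Mathlib.LinearAlgebra.Dimension.Constructions
import Mathlib.LinearAlgebra.Dimension.LinearMap
import Mathlib.Algebra.Order.BigOperators.Ring.Finset
import Mathlib.Data.Rat.Cast.Defs
import Mathlib.Tactic.Linarith
import Mathlib.Tactic.Ring

/-!
# Incidence counting for families of curves with constant pairwise intersection
-/

namespace Groth.Agent.H28Alg.Incidence

universe u v

open Finset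

variable {P : Type u} {ι : Type v} [Fintype ι] {inc : P → ι → Prop} {h : ℕ}

open Classical in
/-- Number of curves through a point. -/
noncomputable def mult (inc : P → ι → Prop) (p : P) : ℕ := (univ.filter fun j => inc p j).card

lemma natCard_eq_mult (p : P) : Nat.card {j : ι // inc p j} = mult inc p := by
  classical
  simp [mult, Nat.card_eq_fintype_card, Fintype.card_subtype]

variable (hfin : ∀ i j : ι, i ≠ j → {p : P | inc p i ∧ inc p j}.Finite)

open Classical in
/-- The multiple points. -/
noncomputable def pts : Finset P :=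
  (univ : Finset ι).biUnion fun i => univ.biUnion fun j =>
    if hij : i ≠ j then (hfin i j hij).toFinset else ∅

lemma mem_pts {p : P} : p ∈ pts hfin ↔ ∃ i j : ι, i ≠ j ∧ inc p i ∧ inc p j := by
  classical
  simp only [pts, mem_biUnion, mem_univ, true_and]
  constructor
  · rintro ⟨i, j, h⟩
    split_ifs at h with hij
    · exact ⟨i, j, hij, by simpa using h⟩
    · simp at h
  · rintro ⟨i, j, hij, hp⟩
    exact ⟨i, j, by rw [dif_pos hij]; simpa using hp⟩

lemma mem_pts_iff {p : P} : p ∈ pts hfin ↔ 2 ≤ mult inc p := by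
  classical
  rw [mem_pts]
  show _ ↔ 1 < _
  rw [mult, Finset.one_lt_card]
  simp only [mem_filter, mem_univ, true_and]
  exact ⟨fun ⟨i, j, h1, h2, h3⟩ => ⟨i, h2, j, h3, h1⟩, fun ⟨i, h2, j, h3, h1⟩ => ⟨i, j, h1, h2, h3⟩⟩

variable (hcount : ∀ i j : ι, i ≠ j → {p : P | inc p i ∧ inc p j}.ncard = h)

include hcount in
lemma card_pair {i j : ι} [DecidablePred fun p => inc p i ∧ inc p j] (hij : i ≠ j) :
    ((pts hfin).filter fun p => inc p i ∧ inc p j).card = h := by
  rw [← hcount i j hij, ← Set.ncard_coe_finset]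
  congr 1
  ext p
  simp only [coe_filter, Set.mem_setOf_eq]
  exact ⟨fun hp => hp.2, fun hp => ⟨(mem_pts hfin).2 ⟨i, j, hij, hp⟩, hp⟩⟩

include hcount in
lemma sum_at (i : ι) [DecidablePred fun p => inc p i] :
    ∑ p ∈ (pts hfin).filter (fun p => inc p i), (mult inc p - 1) = h * (Fintype.card ι - 1) := by
  classical
  have e : ∀ p ∈ (pts hfin).filter (fun p => inc p i),
      mult inc p - 1 = ∑ j ∈ univ.erase i, if inc p j then 1 else 0 := fun p hp => by
    rw [Finset.sum_boole, Nat.cast_id, filter_erase, card_erase_of_mem (by simpa using (mem_filter.1 hp).2)]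
    rfl
  rw [sum_congr rfl e, sum_comm]
  have e2 : ∀ j ∈ univ.erase i, (∑ p ∈ (pts hfin).filter (fun p => inc p i), if inc p j then 1 else 0) = h := by
    intro j hj
    rw [Finset.sum_boole, Nat.cast_id, filter_filter]
    exact card_pair hfin hcount (ne_of_mem_erase hj).symm
  rw [sum_congr rfl e2, sum_const, card_erase_of_mem (mem_univ i), card_univ, smul_eq_mul, mul_comm]

include hfin hcount in
theorem finsum_eq (i : ι) :
    ∑ᶠ p ∈ {p : P | inc p i}, (Nat.card {j : ι // inc p j} - 1) = h * (Fintype.card ι - 1) := by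
  classical
  rw [← sum_at hfin hcount i]
  simp only [natCard_eq_mult]
  apply finsum_mem_eq_sum_of_inter_support_eq
  ext p
  simp only [Set.mem_inter_iff, Set.mem_setOf_eq, Function.mem_support, coe_filter]
  constructor
  · rintro ⟨h1, h2⟩
    exact ⟨⟨(mem_pts_iff hfin).2 (by omega), h1⟩, h2⟩
  · rintro ⟨⟨h1, h2⟩, h3⟩
    exact ⟨h2, h3⟩

include hfin hcount in
theorem sum_kfold :
    ∑ k ∈ Finset.Icc 2 (Fintype.card ι), k * (k - 1) * Nat.card {p : P // Nat.card {j : ι // inc p j} = k} =
      h * (Fintype.card ι * (Fintype.card ι - 1)) := by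
  classical
  have e : ∀ k ∈ Finset.Icc 2 (Fintype.card ι),
      k * (k - 1) * Nat.card {p : P // Nat.card {j : ι // inc p j} = k} =
        ∑ p ∈ (pts hfin).filter (fun p => mult inc p = k), mult inc p * (mult inc p - 1) := fun k hk => by
    have hk2 := (Finset.mem_Icc.1 hk).1
    rw [sum_congr rfl (fun p hp => by rw [(mem_filter.1 hp).2]), sum_const, smul_eq_mul, mul_comm]
    congr 1
    rw [← Set.ncard_coe_finset]
    refine (Nat.card_coe_set_eq {p : P | Nat.card {j : ι // inc p j} = k}).trans (congrArg Set.ncard ?_)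
    ext p
    simp only [natCard_eq_mult, Set.mem_setOf_eq, coe_filter]
    exact ⟨fun hp => ⟨(mem_pts_iff hfin).2 (by omega), hp⟩, fun hp => hp.2⟩
  rw [sum_congr rfl e, Finset.sum_fiberwise_of_maps_to (fun p hp => Finset.mem_Icc.2
    ⟨(mem_pts_iff hfin).1 hp, by rw [mult, ← card_univ]; exact card_le_card (filter_subset _ _)⟩)]
  have e3 : ∀ p ∈ pts hfin, mult inc p * (mult inc p - 1) = ∑ i, if inc p i then mult inc p - 1 else 0 :=
    fun p _ => by
      rw [Finset.sum_ite, sum_const_zero, add_zero, sum_const, smul_eq_mul]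
      rfl
  rw [sum_congr rfl e3, sum_comm]
  simp only [← Finset.sum_filter, sum_at hfin hcount, sum_const, card_univ, smul_eq_mul]
  ring

variable (hh : 0 < h) (hd : 2 ≤ Fintype.card ι) (hnone : ∀ p : P, ∃ i : ι, ¬ inc p i)

include hfin hcount hh hd hnone in
lemma exists_not (i j : ι) (hij : i ≠ j) : ∃ p ∈ pts hfin, inc p i ∧ ¬ inc p j := by
  classical
  by_contra hne
  push Not at hne
  -- every multiple point of `i` lies on `j`
  obtain ⟨p, hpi, hpj⟩ : ∃ p, inc p i ∧ inc p j :=
    Set.nonempty_of_ncard_ne_zero (s := {p : P | inc p i ∧ inc p j}) (by rw [hcount i j hij]; omega)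
  obtain ⟨k, hk⟩ := hnone p
  have hki : k ≠ i := fun e => hk (e ▸ hpi)
  have hsub : {p : P | inc p i ∧ inc p k} ⊆ {p : P | inc p i ∧ inc p j} := fun q hq =>
    ⟨hq.1, hne q ((mem_pts hfin).2 ⟨i, k, hki.symm, hq⟩) hq.1⟩
  have heq := Set.eq_of_subset_of_ncard_le hsub (by rw [hcount i j hij, hcount i k hki.symm]) (hfin i j hij)
  exact hk (heq.symm ▸ (show p ∈ {p : P | inc p i ∧ inc p j} from ⟨hpi, hpj⟩)).2

include hfin hcount hh hd hnone in
theorem h_add_two_le : h + 2 ≤ Nat.card {p : P // 2 ≤ Nat.card {j : ι // inc p j}} := by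
  classical
  obtain ⟨i, j, hij⟩ := Fintype.one_lt_card_iff.1 (show 1 < Fintype.card ι by omega)
  obtain ⟨p, hp, hpi, hpj⟩ := exists_not hfin hcount hh hd hnone i j hij
  obtain ⟨q, hq, hqj, hqi⟩ := exists_not hfin hcount hh hd hnone j i hij.symm
  have hcard : Nat.card {p : P // 2 ≤ Nat.card {j : ι // inc p j}} = (pts hfin).card := by
    rw [← Set.ncard_coe_finset]
    refine (Nat.card_coe_set_eq {p : P | 2 ≤ Nat.card {j : ι // inc p j}}).trans (congrArg Set.ncard ?_)
    ext p
    simp only [Set.mem_setOf_eq, natCard_eq_mult, mem_coe, mem_pts_iff]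
  rw [hcard, ← card_pair hfin hcount hij]
  have hpq : p ≠ q := fun e => hpj (e ▸ hqj)
  calc ((pts hfin).filter fun p => inc p i ∧ inc p j).card + 2
      = (((pts hfin).filter fun p => inc p i ∧ inc p j) ∪ {p, q}).card := by
        rw [card_union_of_disjoint, Finset.card_pair hpq]
        simp [disjoint_insert_right, hpj, hqi]
    _ ≤ _ := card_le_card (union_subset (filter_subset _ _) (by simp [insert_subset_iff, hp, hq]))

include hfin hcount hh hd hnone in
theorem card_le : Fintype.card ι ≤ Nat.card {p : P // 2 ≤ Nat.card {j : ι // inc p j}} := by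
  classical
  have hcard : Nat.card {p : P // 2 ≤ Nat.card {j : ι // inc p j}} = (pts hfin).card := by
    rw [← Set.ncard_coe_finset]
    refine (Nat.card_coe_set_eq {p : P | 2 ≤ Nat.card {j : ι // inc p j}}).trans (congrArg Set.ncard ?_)
    ext p
    simp only [Set.mem_setOf_eq, natCard_eq_mult, mem_coe, mem_pts_iff]
  rw [hcard]
  set M := pts hfin with hMdef
  let N : (ι → ℚ) →ₗ[ℚ] ({x // x ∈ M} → ℚ) := LinearMap.pi fun p =>
    ∑ i, if inc (p : P) i then LinearMap.proj i else 0
  have hN : ∀ c p, N c p = ∑ i, if inc (p : P) i then c i else 0 := fun c p => by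
    simp only [N, LinearMap.pi_apply, LinearMap.sum_apply]
    exact sum_congr rfl fun i _ => by split_ifs <;> simp
  have hm : ∀ i, h < (M.filter fun p => inc p i).card := fun i => by
    obtain ⟨j, hj⟩ := Fintype.exists_ne_of_one_lt_card (show 1 < Fintype.card ι by omega) i
    obtain ⟨p, hp, hpi, hpj⟩ := exists_not hfin hcount hh hd hnone i j hj.symm
    rw [← card_pair hfin hcount hj.symm]
    refine card_lt_card ((ssubset_iff_of_subset fun q hq => ?_).2
      ⟨p, mem_filter.2 ⟨hp, hpi⟩, fun hp' => hpj (mem_filter.1 hp').2.2⟩)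
    simp only [mem_filter] at hq ⊢
    exact ⟨hq.1, hq.2.1⟩
  have hinj : Function.Injective N := by
    rw [← LinearMap.ker_eq_bot, eq_bot_iff]
    intro c hc
    have h0 : ∑ p ∈ M, (∑ i, if inc p i then c i else 0) * (∑ i, if inc p i then c i else 0) = 0 :=
      sum_eq_zero fun p hp => by
        have := congrFun (LinearMap.mem_ker.1 hc) ⟨p, hp⟩
        rw [hN] at this
        simp only [Pi.zero_apply] at this
        rw [this, mul_zero]
    have h1 : ∀ i j, (∑ p ∈ M, (if inc p i then c i else 0) * (if inc p j then c j else 0)) =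
        (((M.filter fun p => inc p i ∧ inc p j).card : ℕ) : ℚ) * (c i * c j) := fun i j => by
      rw [← nsmul_eq_mul, ← sum_const, sum_filter]
      exact sum_congr rfl fun p _ => by split_ifs <;> simp_all
    simp only [sum_mul, mul_sum] at h0
    rw [sum_comm, sum_congr rfl (fun i _ => sum_comm)] at h0
    simp only [h1] at h0
    have h2 : ∀ i j, (((M.filter fun p => inc p i ∧ inc p j).card : ℕ) : ℚ) * (c i * c j) = (h : ℚ) * (c i * c j) +
        (if i = j then ((((M.filter fun p => inc p i).card : ℕ) : ℚ) - h) * (c i * c i) else 0) := fun i j => by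
      split_ifs with hij
      · subst hij; simp only [and_self]; ring
      · rw [hMdef, card_pair hfin hcount hij]; ring
    simp only [h2, sum_add_distrib, ← mul_sum, sum_ite_eq, sum_ite_eq', mem_univ, if_true] at h0
    have e : ∑ i, ∑ j, c j * c i = (∑ i, c i) * (∑ i, c i) := by
      rw [sum_mul_sum]
      exact sum_congr rfl fun i _ => sum_congr rfl fun j _ => mul_comm _ _
    rw [e] at h0
    have h4 : ∀ i, 0 ≤ ((((M.filter fun p => inc p i).card : ℕ) : ℚ) - h) * (c i * c i) := fun i =>
      mul_nonneg (by have := hm i; rw [sub_nonneg]; exact_mod_cast this.le) (mul_self_nonneg _)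
    have h5 := (sum_eq_zero_iff_of_nonneg fun i _ => h4 i).1
      (le_antisymm (by nlinarith [mul_self_nonneg (∑ i, c i), (show (0 : ℚ) ≤ h by positivity)])
        (sum_nonneg fun i _ => h4 i))
    refine funext fun i => ?_
    rcases mul_eq_zero.1 (h5 i (mem_univ i)) with h6 | h6
    · have := hm i
      rw [sub_eq_zero, Nat.cast_inj] at h6
      omega
    · simpa using mul_self_eq_zero.1 h6
  have := LinearMap.finrank_le_finrank_of_injective hinj
  simpa using this

end Groth.Agent.H28Alg.Incidence
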