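import Mathlib.LinearAlgebra.BilinearForm.Orthogonal
import Mathlib.LinearAlgebra.BilinearForm.Properties
import Mathlib.LinearAlgebra.Dual.Lemmas
import Mathlib.LinearAlgebra.Dimension.RankNullity
import Mathlib.LinearAlgebra.Dimension.Localization
import Mathlib.LinearAlgebra.FreeModule.PID
import Mathlib.LinearAlgebra.Dimension.Torsion.Finite
import Mathlib.Algebra.Module.Projective
import Mathlib.Algebra.Module.Torsion.Basic
import Mathlib.Tactic.LinearCombination

/-!
# Positive definite lattices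
-/

namespace Groth.Agent.H28Alg

variable {L : Type} [AddCommGroup L] [Module.Finite ℤ L] [Module.Free ℤ L]

/-- a positive definite form has finite cokernel on every sublattice -/
lemma exists_smul_eq_form (B : LinearMap.BilinForm ℤ L) (hpos : ∀ x, x ≠ 0 → 0 < B x x)
    (A : Submodule ℤ L) (ψ : Module.Dual ℤ A) :
    ∃ (c : ℤ) (a : A), c ≠ 0 ∧ ∀ a' : A, c * ψ a' = B a a' := by
  let φ : A →ₗ[ℤ] Module.Dual ℤ A := (B.compl₂ A.subtype) ∘ₗ A.subtype
  have hinj : Function.Injective φ := by
    rw [injective_iff_map_eq_zero]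
    intro a ha
    by_contra h0
    have h1 : B a a = 0 := LinearMap.congr_fun ha a
    exact (hpos a fun h => h0 (Subtype.ext h)).ne' h1
  have hr : Module.finrank ℤ (Module.Dual ℤ A ⧸ LinearMap.range φ) = 0 := by
    have h1 := (LinearMap.range φ).finrank_quotient_add_finrank
    have h2 := LinearEquiv.finrank_eq (LinearEquiv.ofInjective φ hinj)
    have h3 : Module.finrank ℤ (Module.Dual ℤ A) = Module.finrank ℤ A :=
      (LinearEquiv.finrank_eq (Module.Free.chooseBasis ℤ A).toDualEquiv).symm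
    omega
  obtain ⟨c, hc, h⟩ := Module.finrank_eq_zero_iff.1 hr (Submodule.Quotient.mk ψ)
  rw [← Submodule.Quotient.mk_smul, Submodule.Quotient.mk_eq_zero] at h
  obtain ⟨a, ha⟩ := h
  refine ⟨c, a, hc, fun a' => ?_⟩
  have := LinearMap.congr_fun ha a'
  simpa [φ] using this.symm

lemma orthogonal_saturated (B : LinearMap.BilinForm ℤ L) (A : Submodule ℤ L) (c : ℤ) (x : L)
    (hc : c ≠ 0) (h : c • x ∈ B.orthogonal A) : x ∈ B.orthogonal A := by
  rw [LinearMap.BilinForm.mem_orthogonal_iff] at h ⊢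
  intro n hn
  have h' : B n (c • x) = 0 := h n hn
  rw [map_smul, smul_eq_mul] at h'
  exact (mul_eq_zero.1 h').resolve_left hc

/-- functionals on a saturated sublattice extend -/
lemma exists_extend (A : Submodule ℤ L) (htf : ∀ (c : ℤ) (x : L), c ≠ 0 → c • x ∈ A → x ∈ A)
    (ψ : Module.Dual ℤ A) : ∃ φ : Module.Dual ℤ L, φ ∘ₗ A.subtype = ψ := by
  haveI : Module.IsTorsionFree ℤ (L ⧸ A) := by
    refine Module.IsTorsionFree.of_smul_eq_zero fun c x h => ?_
    obtain ⟨x, rfl⟩ := Submodule.Quotient.mk_surjective _ x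
    rw [← Submodule.Quotient.mk_smul, Submodule.Quotient.mk_eq_zero] at h
    rcases eq_or_ne c 0 with hc | hc
    · exact .inl hc
    · exact .inr ((Submodule.Quotient.mk_eq_zero A).2 (htf c x hc h))
  haveI : Module.Free ℤ (L ⧸ A) := Module.free_of_finite_type_torsion_free'
  obtain ⟨s, hs⟩ := Module.projective_lifting_property A.mkQ LinearMap.id (Submodule.mkQ_surjective A)
  let p : L →ₗ[ℤ] A := LinearMap.codRestrict A (LinearMap.id - s ∘ₗ A.mkQ) fun x => by
    rw [← Submodule.Quotient.mk_eq_zero]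
    have := LinearMap.congr_fun hs (A.mkQ x)
    simp only [LinearMap.comp_apply, LinearMap.id_apply, Submodule.mkQ_apply] at this
    simp [this]
  refine ⟨ψ ∘ₗ p, LinearMap.ext fun a => ?_⟩
  have : p (a : L) = a := Subtype.ext (by simp [p, (Submodule.Quotient.mk_eq_zero A).2 a.2])
  simp [this]

/-- a saturated sublattice equals its double orthogonal -/
lemma mem_of_orthogonal_orthogonal (B : LinearMap.BilinForm ℤ L) (hsymm : B.IsSymm)
    (hpos : ∀ x, x ≠ 0 → 0 < B x x) (A : Submodule ℤ L)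
    (htf : ∀ (c : ℤ) (x : L), c ≠ 0 → c • x ∈ A → x ∈ A) {y : L}
    (hy : ∀ b ∈ B.orthogonal A, B y b = 0) : y ∈ A := by
  obtain ⟨c, a, hc, h⟩ := exists_smul_eq_form B hpos A ((B y) ∘ₗ A.subtype)
  refine htf c y hc ?_
  have hb : c • y - (a : L) ∈ B.orthogonal A := by
    rw [LinearMap.BilinForm.mem_orthogonal_iff]
    intro n hn
    show B n (c • y - (a : L)) = 0
    have h1 := h ⟨n, hn⟩
    simp only [LinearMap.comp_apply, Submodule.subtype_apply] at h1
    rw [hsymm.eq n, map_sub, map_smul, LinearMap.sub_apply, LinearMap.smul_apply, smul_eq_mul, h1, sub_self]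
  have h2 : B (c • y) (c • y - (a : L)) = 0 := by
    rw [map_smul, LinearMap.smul_apply, hy _ hb, smul_zero]
  have h3 : B (a : L) (c • y - (a : L)) = 0 := LinearMap.BilinForm.mem_orthogonal_iff.1 hb _ a.2
  by_contra hne
  have h4 := hpos (c • y - (a : L)) fun h0 => hne (by rw [sub_eq_zero.1 h0]; exact a.2)
  rw [map_sub, hsymm.eq _ (c • y), h2, hsymm.eq _ (a : L), h3, sub_zero] at h4
  exact lt_irrefl _ h4

end Groth.Agent.H28Alg
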