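import Mathlib.RingTheory.MvPolynomial.MonomialOrder
import Mathlib.Algebra.Algebra.Operations

/-!
# Generation of bigraded pieces from leading monomials
-/

namespace Groth.Agent.H28Alg

open MvPolynomial

universe u

variable {k : Type u} [Field k]

/-- The span of monomials of a bidegree. -/
noncomputable def piece (k : Type u) [Field k] (a b : ℕ) : Submodule k (MvPolynomial (Fin 4) k) :=
  Submodule.span k {f : MvPolynomial (Fin 4) k | ∃ e : Fin 4 →₀ ℕ, e 2 + e 3 = a ∧ e 0 + e 1 = b + e 2 ∧ f = monomial e 1}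

lemma mem_piece {a b : ℕ} {f : MvPolynomial (Fin 4) k} :
    f ∈ piece k a b ↔ ∀ e ∈ f.support, e 2 + e 3 = a ∧ e 0 + e 1 = b + e 2 := by
  classical
  refine ⟨fun hf => ?_, fun hf => ?_⟩
  · induction hf using Submodule.span_induction with
    | mem x hx =>
      obtain ⟨e, h1, h2, rfl⟩ := hx
      intro d hd
      rw [support_monomial, if_neg one_ne_zero, Finset.mem_singleton] at hd
      exact hd ▸ ⟨h1, h2⟩
    | zero => simp
    | add x y _ _ hx hy =>
      intro d hd
      rcases Finset.mem_union.1 (support_add hd) with h | h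
      exacts [hx d h, hy d h]
    | smul c x _ hx =>
      intro d hd
      exact hx d (support_smul hd)
  · rw [f.as_sum]
    refine sum_mem fun e he => ?_
    rw [show monomial e (coeff e f) = coeff e f • monomial e (1 : k) by rw [smul_monomial, smul_eq_mul, mul_one]]
    exact Submodule.smul_mem _ _ (Submodule.subset_span ⟨e, (hf e he).1, (hf e he).2, rfl⟩)

theorem piece_generated (mo : MonomialOrder (Fin 4)) (a b c : ℕ) (W : Submodule k (MvPolynomial (Fin 4) k))
    (hW : W ≤ piece k a b)
    (h₁ : ∀ i j : ℕ, i ≤ a → j * (c + 1) < b + i → ∃ w ∈ W, w ≠ 0 ∧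
      mo.degree w = Finsupp.single 0 (b + i - j * (c + 1)) + Finsupp.single 1 (j * (c + 1)) +
        Finsupp.single 2 i + Finsupp.single 3 (a - i))
    (h₂ : ∀ i : ℕ, i ≤ a → ∃ w ∈ W, w ≠ 0 ∧
      mo.degree w = Finsupp.single 1 (b + i) + Finsupp.single 2 i + Finsupp.single 3 (a - i)) :
    W * piece k 0 c = piece k a (b + c) := by
  classical
  have hle : W * piece k 0 c ≤ piece k a (b + c) := by
    refine (mul_le_mul_left hW _).trans ?_
    rw [Submodule.mul_le]
    intro f hf g hg
    rw [mem_piece] at hf hg ⊢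
    intro e he
    obtain ⟨p, hp, q, hq, rfl⟩ := Finset.mem_add.1 (support_mul f g he)
    have := hf p hp; have := hg q hq
    simp only [Finsupp.add_apply]
    omega
  refine le_antisymm hle fun f hf => ?_
  haveI := mo.wellFoundedLT_syn
  suffices H : ∀ (d : mo.syn) (f : MvPolynomial (Fin 4) k), mo.toSyn (mo.degree f) = d →
      f ∈ piece k a (b + c) → f ∈ W * piece k 0 c from H _ f rfl hf
  intro d
  induction d using WellFoundedLT.induction with
  | _ d ih =>
    intro f hd hf
    rcases eq_or_ne f 0 with rfl | hf0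
    · exact zero_mem _
    set e := mo.degree f
    obtain ⟨he1, he2⟩ := mem_piece.1 hf e (mo.degree_mem_support hf0)
    set i := e 2
    have hia : i ≤ a := by omega
    obtain ⟨w, hw, hw0, m, hm1, hm2, hwm⟩ : ∃ w ∈ W, w ≠ 0 ∧ ∃ m : Fin 4 →₀ ℕ,
        m 2 + m 3 = 0 ∧ m 0 + m 1 = c + m 2 ∧ mo.degree w + m = e := by
      by_cases ht : e 1 < b + i
      · obtain ⟨w, hw, hw0, hdeg⟩ := h₁ i (e 1 / (c + 1)) hia
          (lt_of_le_of_lt (Nat.div_mul_le_self _ _) ht)
        have hmod := Nat.div_add_mod' (e 1) (c + 1)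
        have hlt : e 1 % (c + 1) < c + 1 := Nat.mod_lt _ (by omega)
        refine ⟨w, hw, hw0, Finsupp.single 0 (c - e 1 % (c + 1)) + Finsupp.single 1 (e 1 % (c + 1)),
          by simp, by simp; omega, ?_⟩
        rw [hdeg]
        ext x
        fin_cases x <;> simp <;> omega
      · obtain ⟨w, hw, hw0, hdeg⟩ := h₂ i hia
        refine ⟨w, hw, hw0, Finsupp.single 0 (b + c + i - e 1) + Finsupp.single 1 (e 1 - (b + i)),
          by simp, by simp; omega, ?_⟩
        rw [hdeg]
        ext x
        fin_cases x <;> simp <;> omega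
    have hmem : monomial m (1 : k) ∈ piece k 0 c := Submodule.subset_span ⟨m, hm1, hm2, rfl⟩
    set g := w * monomial m (1 : k)
    have hm0 : monomial m (1 : k) ≠ 0 := by simp
    have hg0 : g ≠ 0 := mul_ne_zero hw0 hm0
    have hgdeg : mo.degree g = e := by
      rw [mo.degree_mul hw0 hm0, mo.degree_monomial, if_neg one_ne_zero, hwm]
    have hgmem : g ∈ W * piece k 0 c := Submodule.mul_mem_mul hw hmem
    set t := mo.leadingCoeff f / mo.leadingCoeff g
    have hlc : mo.leadingCoeff g ≠ 0 := mo.leadingCoeff_ne_zero_iff.2 hg0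
    suffices f - t • g ∈ W * piece k 0 c by
      simpa using add_mem this (Submodule.smul_mem _ t hgmem)
    rcases eq_or_ne (f - t • g) 0 with h0 | h0
    · rw [h0]; exact zero_mem _
    refine ih _ ?_ _ rfl (sub_mem hf (Submodule.smul_mem _ t (hle hgmem)))
    rw [← hd]
    refine lt_of_le_of_ne ?_ ?_
    · rw [mo.degree_le_iff]
      intro s hs
      rcases Finset.mem_union.1 (support_sub (Fin 4) f (t • g) hs) with h | h
      · exact mo.le_degree h
      · have := mo.le_degree (support_smul h)
        rwa [hgdeg] at this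
    · intro heq
      have heq' : mo.degree (f - t • g) = e := mo.toSyn.injective heq
      have := (mo.leadingCoeff_ne_zero_iff).2 h0
      rw [MonomialOrder.leadingCoeff, heq', coeff_sub, coeff_smul, smul_eq_mul] at this
      refine this ?_
      have hge : coeff e g = mo.leadingCoeff g := by rw [MonomialOrder.leadingCoeff, hgdeg]
      rw [hge, div_mul_cancel₀ _ hlc]
      exact sub_self _

end Groth.Agent.H28Alg
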