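-- The formal Morse lemma
import Mathlib.RingTheory.MvPowerSeries.Substitution
import Mathlib.RingTheory.MvPowerSeries.Derivative
import Mathlib.RingTheory.MvPowerSeries.Inverse
import Mathlib.RingTheory.MvPolynomial.Homogeneous
import Mathlib.RingTheory.LocalRing.MaximalIdeal.Basic

/-!
# The formal Morse lemma in every characteristic
-/

set_option autoImplicit false

open MvPowerSeries Finset

namespace Groth.Agent.H28Alg.Morse

variable {k : Type} [Field k] {n : ℕ}

/-- All coefficients of degree `< d` vanish. -/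
def Vanish (d : ℕ) (g : MvPowerSeries (Fin n) k) : Prop :=
  ∀ m : Fin n →₀ ℕ, m.degree < d → coeff m g = 0

theorem Vanish.mono {d d' : ℕ} {g : MvPowerSeries (Fin n) k} (h : Vanish d g) (hd : d' ≤ d) :
    Vanish d' g := fun m hm => h m (lt_of_lt_of_le hm hd)

theorem Vanish.add {d : ℕ} {g g' : MvPowerSeries (Fin n) k} (h : Vanish d g) (h' : Vanish d g') :
    Vanish d (g + g') := fun m hm => by rw [map_add, h m hm, h' m hm, add_zero]

theorem Vanish.sub {d : ℕ} {g g' : MvPowerSeries (Fin n) k} (h : Vanish d g) (h' : Vanish d g') :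
    Vanish d (g - g') := fun m hm => by rw [map_sub, h m hm, h' m hm, sub_zero]

theorem Vanish.sum {d : ℕ} {ι : Type} (s : Finset ι) {g : ι → MvPowerSeries (Fin n) k}
    (h : ∀ i ∈ s, Vanish d (g i)) : Vanish d (∑ i ∈ s, g i) := fun m hm => by
  rw [map_sum]
  exact Finset.sum_eq_zero fun i hi => h i hi m hm

theorem Vanish.C_mul {d : ℕ} {g : MvPowerSeries (Fin n) k} (h : Vanish d g) (a : k) :
    Vanish d (C a * g) := fun m hm => by rw [coeff_C_mul, h m hm, mul_zero]

theorem Vanish.mul {d e : ℕ} {g g' : MvPowerSeries (Fin n) k} (h : Vanish d g) (h' : Vanish e g') :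
    Vanish (d + e) (g * g') := fun m hm => by
  classical
  rw [coeff_mul]
  refine Finset.sum_eq_zero fun p hp => ?_
  rw [Finset.mem_antidiagonal] at hp
  rw [← hp, map_add] at hm
  rcases Nat.lt_or_ge p.1.degree d with h1 | h1
  · rw [h _ h1, zero_mul]
  · rw [h' _ (by omega), mul_zero]

theorem vanish_zero (g : MvPowerSeries (Fin n) k) : Vanish 0 g := fun _ hm =>
  absurd hm (Nat.not_lt_zero _)

theorem vanish_one_X (i : Fin n) : Vanish 1 (X i : MvPowerSeries (Fin n) k) := fun m hm => by
  classical
  rw [coeff_X, if_neg]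
  rintro rfl
  simp at hm

/-- A chosen quotient of a series by the `j`-th variable. -/
noncomputable def divX (j : Fin n) (g : MvPowerSeries (Fin n) k) : MvPowerSeries (Fin n) k :=
  fun m => if ∀ i, i < j → m i = 0 then coeff (m + Finsupp.single j 1) g else 0

theorem coeff_divX (j : Fin n) (g : MvPowerSeries (Fin n) k) (m : Fin n →₀ ℕ) :
    coeff m (divX j g) = if ∀ i, i < j → m i = 0 then coeff (m + Finsupp.single j 1) g else 0 :=
  rfl

theorem divX_sub (j : Fin n) (g g' : MvPowerSeries (Fin n) k) :
    divX j (g - g') = divX j g - divX j g' := by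
  ext m
  rw [map_sub, coeff_divX, coeff_divX, coeff_divX, map_sub]
  split_ifs <;> simp

theorem Vanish.divX {d : ℕ} {g : MvPowerSeries (Fin n) k} (h : Vanish (d + 1) g) (j : Fin n) :
    Vanish d (Morse.divX j g) := fun m hm => by
  rw [coeff_divX]
  split_ifs
  · exact h _ (by rw [map_add, Finsupp.degree_single]; omega)
  · rfl

theorem sum_X_mul_divX {g : MvPowerSeries (Fin n) k} (hg : Vanish 1 g) :
    ∑ j, X j * divX j g = g := by
  classical
  ext m
  rw [map_sum]
  by_cases hm : m = 0
  · subst hm
    rw [hg 0 (by simp)]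
    refine Finset.sum_eq_zero fun j _ => ?_
    rw [coeff_zero_eq_constantCoeff_apply, map_mul, constantCoeff_X, zero_mul]
  · obtain ⟨j₀, hj₀⟩ : m.support.Nonempty := Finsupp.support_nonempty_iff.2 hm
    let j := m.support.min' ⟨j₀, hj₀⟩
    have hj : m j ≠ 0 := Finsupp.mem_support_iff.1 (Finset.min'_mem _ _)
    have hlt : ∀ i, i < j → m i = 0 := fun i hi => by
      by_contra h
      exact absurd (Finset.min'_le m.support i (Finsupp.mem_support_iff.2 h)) (not_le.2 hi)
    rw [Finset.sum_eq_single j]
    · have hle : Finsupp.single j 1 ≤ m := by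
        rw [Finsupp.single_le_iff]; omega
      rw [X_def, coeff_monomial_mul, if_pos hle, one_mul, coeff_divX, if_pos, tsub_add_cancel_of_le hle]
      intro i hi
      rw [Finsupp.tsub_apply, hlt i hi, zero_tsub]
    · intro b _ hb
      rw [X_def, coeff_monomial_mul]
      split_ifs with hle
      · rw [one_mul, coeff_divX, if_neg]
        intro h
        rcases lt_trichotomy b j with hbj | hbj | hbj
        · rw [Finsupp.single_le_iff] at hle
          exact absurd (hlt b hbj) (by omega)
        · exact hb hbj
        · have := h j hbj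
          rw [Finsupp.tsub_apply, Finsupp.single_eq_of_ne hbj.ne] at this
          exact hj (by simpa using this)
      · rfl
    · exact fun h => absurd (Finset.mem_univ _) h

theorem single_eq_of_degree_one {m : Fin n →₀ ℕ} (h : m.degree = 1) :
    ∃ i, m = Finsupp.single i 1 := by
  obtain ⟨i, hi⟩ : m.support.Nonempty := Finsupp.support_nonempty_iff.2 fun e => by simp [e] at h
  refine ⟨i, (Finsupp.single_le_iff.2 (Nat.one_le_iff_ne_zero.2
    (Finsupp.mem_support_iff.1 hi))).antisymm' ?_⟩
  intro a
  have hle : Finsupp.single i 1 ≤ m :=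
    Finsupp.single_le_iff.2 (Nat.one_le_iff_ne_zero.2 (Finsupp.mem_support_iff.1 hi))
  have hd : (m - Finsupp.single i 1).degree = 0 := by
    have := congrArg Finsupp.degree (tsub_add_cancel_of_le hle)
    rw [map_add, Finsupp.degree_single, h] at this
    omega
  have h0 := DFunLike.congr_fun ((Finsupp.degree_eq_zero_iff _).1 hd) a
  rw [Finsupp.tsub_apply, Finsupp.zero_apply] at h0
  omega

section Main

variable (f : MvPowerSeries (Fin n) k)

/-- The coefficient of `X a * X b` attached to an ordered pair. -/
noncomputable def w (a b : Fin n) : k :=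
  if a ≤ b then coeff (Finsupp.single a 1 + Finsupp.single b 1) f else 0

/-- The quadratic part. -/
noncomputable def quad : MvPolynomial (Fin n) k :=
  ∑ a, ∑ b, MvPolynomial.C (w f a b) * (MvPolynomial.X a * MvPolynomial.X b)

/-- The quadratic part as a form. -/
noncomputable def Q (u : Fin n → MvPowerSeries (Fin n) k) : MvPowerSeries (Fin n) k :=
  ∑ a, ∑ b, C (w f a b) * (u a * u b)

/-- The linear coefficient of the `i`-th derivative at `X j`. -/
noncomputable def H (i j : Fin n) : k :=
  coeff (Finsupp.single j 1) (MvPowerSeries.pderiv k i f)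

/-- The derivative of the quadratic form. -/
noncomputable def L (i : Fin n) : MvPowerSeries (Fin n) k := ∑ j, C (H f i j) * X j

theorem H_eq (i j : Fin n) : H f i j = w f i j + w f j i := by
  rw [H, MvPowerSeries.coeff_pderiv, add_comm (Finsupp.single j 1), w, w]
  rcases lt_trichotomy i j with h | h | h
  · rw [if_pos h.le, if_neg h.not_ge, Finsupp.single_eq_of_ne h.ne, add_zero]
    simp
  · subst h
    simp only [le_refl, if_true, Finsupp.single_eq_same]
    push_cast
    ring
  · rw [if_neg h.not_ge, if_pos h.le, Finsupp.single_eq_of_ne h.ne', zero_add,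
      add_comm (Finsupp.single i 1)]
    simp

theorem Q_add (u v : Fin n → MvPowerSeries (Fin n) k) (hu : u = fun i => X i) :
    Q f (fun i => u i + v i) = Q f u + ∑ i, L f i * v i + Q f v := by
  subst hu
  have e : ∑ i, L f i * v i =
      ∑ a, ∑ b, C (w f a b) * (X a * v b) + ∑ a, ∑ b, C (w f a b) * (v a * X b) := by
    simp only [L, H_eq, map_add, Finset.sum_mul, add_mul, Finset.sum_add_distrib]
    rw [add_comm]
    refine congrArg₂ (· + ·) ?_ ?_
    · rw [Finset.sum_comm]
      exact Finset.sum_congr rfl fun a _ => Finset.sum_congr rfl fun b _ => mul_assoc _ _ _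
    · exact Finset.sum_congr rfl fun a _ => Finset.sum_congr rfl fun b _ => by ring
  rw [e]
  simp only [Q, ← Finset.sum_add_distrib]
  exact Finset.sum_congr rfl fun a _ => Finset.sum_congr rfl fun b _ => by ring

theorem vanish_Q {d : ℕ} {u : Fin n → MvPowerSeries (Fin n) k} (hu : ∀ i, Vanish d (u i)) :
    Vanish (d + d) (Q f u) :=
  Vanish.sum _ fun a _ => Vanish.sum _ fun b _ => ((hu a).mul (hu b)).C_mul _

theorem vanish_Q_sub {d e : ℕ} {u v : Fin n → MvPowerSeries (Fin n) k} (hu : ∀ i, Vanish d (u i))
    (hv : ∀ i, Vanish d (v i)) (huv : ∀ i, Vanish e (u i - v i)) :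
    Vanish (d + e) (Q f u - Q f v) := by
  have h : Q f u - Q f v =
      ∑ a, ∑ b, C (w f a b) * (u a * (u b - v b) + (u a - v a) * v b) := by
    simp only [Q, ← Finset.sum_sub_distrib]
    exact Finset.sum_congr rfl fun a _ => Finset.sum_congr rfl fun b _ => by ring
  rw [h]
  refine Vanish.sum _ fun a _ => Vanish.sum _ fun b _ => Vanish.C_mul ?_ _
  refine ((hu a).mul (huv b)).add ?_
  rw [add_comm]
  exact (huv a).mul (hv b)

theorem Q_X : Q f (fun i => X i) = (quad f : MvPowerSeries (Fin n) k) := by
  show _ = MvPolynomial.coeToMvPowerSeries.ringHom (quad f)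
  simp only [quad, Q, map_sum, map_mul, MvPolynomial.coeToMvPowerSeries.ringHom_apply,
    MvPolynomial.coe_C, MvPolynomial.coe_X]

theorem isHomogeneous_quad : (quad f).IsHomogeneous 2 := by
  refine MvPolynomial.IsHomogeneous.sum _ _ _ fun a _ =>
    MvPolynomial.IsHomogeneous.sum _ _ _ fun b _ => ?_
  exact ((MvPolynomial.isHomogeneous_X k a).mul (MvPolynomial.isHomogeneous_X k b)).C_mul _

theorem subst_quad (u : Fin n → MvPowerSeries (Fin n) k) :
    MvPowerSeries.subst u (quad f : MvPowerSeries (Fin n) k) = Q f u := by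
  rw [MvPowerSeries.subst_coe]
  simp only [quad, Q, map_sum, map_mul, MvPolynomial.aeval_X, MvPolynomial.aeval_C]
  rfl

variable (hf0 : MvPowerSeries.constantCoeff f = 0)
  (hJ : Ideal.span (Set.range fun i : Fin n => MvPowerSeries.pderiv k i f) =
    IsLocalRing.maximalIdeal (MvPowerSeries (Fin n) k))

include hJ in
theorem constantCoeff_pderiv (i : Fin n) : constantCoeff (MvPowerSeries.pderiv k i f) = 0 := by
  have h : MvPowerSeries.pderiv k i f ∈ IsLocalRing.maximalIdeal (MvPowerSeries (Fin n) k) :=
    hJ ▸ Ideal.subset_span ⟨i, rfl⟩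
  rw [IsLocalRing.mem_maximalIdeal, mem_nonunits_iff, MvPowerSeries.isUnit_iff_constantCoeff,
    isUnit_iff_ne_zero, not_not] at h
  exact h

include hf0 hJ in
theorem vanish_two : Vanish 2 f := by
  intro m hm
  rcases Nat.lt_or_ge m.degree 1 with h | h
  · rw [(Finsupp.degree_eq_zero_iff m).1 (by omega), coeff_zero_eq_constantCoeff_apply, hf0]
  · obtain ⟨i, rfl⟩ := single_eq_of_degree_one (m := m) (by omega)
    have hd := constantCoeff_pderiv f hJ i
    rw [← coeff_zero_eq_constantCoeff_apply, MvPowerSeries.coeff_pderiv] at hd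
    simpa using hd

include hJ in
theorem exists_inverse : ∃ M : Fin n → Fin n → k, ∀ j, (X j : MvPowerSeries (Fin n) k) =
    ∑ i, C (M j i) * L f i := by
  classical
  have hX : ∀ j, (X j : MvPowerSeries (Fin n) k) ∈
      Ideal.span (Set.range fun i : Fin n => MvPowerSeries.pderiv k i f) := fun j => by
    rw [hJ, IsLocalRing.mem_maximalIdeal, mem_nonunits_iff, MvPowerSeries.isUnit_iff_constantCoeff,
      constantCoeff_X]
    exact not_isUnit_zero
  choose a ha using fun j => (Submodule.mem_span_range_iff_exists_fun _).1 (hX j)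
  refine ⟨fun j i => constantCoeff (a j i), fun j => ?_⟩
  have key : ∀ l, ∑ i, constantCoeff (a j i) * H f i l = if l = j then 1 else 0 := fun l => by
    have h := congrArg (coeff (Finsupp.single l 1)) (ha j)
    rw [map_sum, coeff_X] at h
    rw [Finset.sum_congr rfl fun i _ => ?_, h]
    · simp [Finsupp.single_eq_single_iff]
    · rw [smul_eq_mul, coeff_mul, Finsupp.antidiagonal_single]
      simp only [Finset.sum_map, Function.Embedding.coe_prodMap, Prod.map_apply]
      rw [Finset.Nat.antidiagonal_succ, Finset.sum_cons, Finset.sum_map,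
        Finset.Nat.antidiagonal_zero, Finset.sum_singleton]
      simp [H, coeff_zero_eq_constantCoeff_apply, constantCoeff_pderiv f hJ]
  calc (X j : MvPowerSeries (Fin n) k) = ∑ l, C (if l = j then (1 : k) else 0) * X l := by
        simp [apply_ite C, ite_mul]
    _ = ∑ l, ∑ i, C (constantCoeff (a j i)) * (C (H f i l) * X l) := by
        refine Finset.sum_congr rfl fun l _ => ?_
        rw [← key l, map_sum, Finset.sum_mul]
        exact Finset.sum_congr rfl fun i _ => by rw [map_mul, mul_assoc]
    _ = ∑ i, C (constantCoeff (a j i)) * L f i := by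
        rw [Finset.sum_comm]
        simp only [L, Finset.mul_sum]

include hf0 hJ in
theorem vanish_three : Vanish 3 (f - (quad f : MvPowerSeries (Fin n) k)) := by
  classical
  have hq2 : Vanish 2 (quad f : MvPowerSeries (Fin n) k) := by
    rw [← Q_X]
    exact vanish_Q f fun i => vanish_one_X i
  intro m hm
  rcases Nat.lt_or_ge m.degree 2 with h | h
  · exact ((vanish_two f hf0 hJ).sub hq2) m h
  · obtain ⟨a, ha⟩ : m.support.Nonempty := Finsupp.support_nonempty_iff.2 fun e => by simp [e] at h
    have hle : Finsupp.single a 1 ≤ m :=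
      Finsupp.single_le_iff.2 (Nat.one_le_iff_ne_zero.2 (Finsupp.mem_support_iff.1 ha))
    obtain ⟨b, hb⟩ := single_eq_of_degree_one (m := m - Finsupp.single a 1) (by
      have := congrArg Finsupp.degree (tsub_add_cancel_of_le hle)
      rw [map_add, Finsupp.degree_single] at this
      omega)
    have hmab : m = Finsupp.single a 1 + Finsupp.single b 1 := by
      rw [← hb, add_tsub_cancel_of_le hle]
    obtain ⟨a, b, hab, rfl⟩ : ∃ a b, a ≤ b ∧ m = Finsupp.single a 1 + Finsupp.single b 1 := by
      rcases le_total a b with hh | hh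
      · exact ⟨a, b, hh, hmab⟩
      · exact ⟨b, a, hh, by rw [add_comm, hmab]⟩
    rw [map_sub, sub_eq_zero, ← Q_X, Q]
    simp only [map_sum, coeff_C_mul, X_def, monomial_mul_monomial, coeff_monomial,
      mul_ite, mul_one, mul_zero]
    rw [Finset.sum_eq_single a, Finset.sum_eq_single b]
    · rw [if_pos rfl, w, if_pos hab]
    · intro b' _ hb'
      rw [if_neg]
      intro e
      exact hb' (Finsupp.single_left_injective one_ne_zero (add_left_cancel e)).symm
    · exact fun h => absurd (Finset.mem_univ _) h
    · intro a' _ ha'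
      refine Finset.sum_eq_zero fun b' _ => ?_
      split_ifs with e
      · rw [w, if_neg]
        intro hab'
        rcases (Finsupp.single_add_single_eq_single_add_single (one_ne_zero (α := ℕ))
          (one_ne_zero (α := ℕ))).1 e with h' | h' | h'
        · exact ha' h'.1.symm
        · obtain ⟨-, h1, h2⟩ := h'
          exact ha' (le_antisymm (hab'.trans_eq h1.symm) (hab.trans_eq h2))
        · obtain ⟨h0, -⟩ := h'
          omega
      · rfl
    · exact fun h => absurd (Finset.mem_univ _) h

include hf0 hJ in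
/-- The formal Morse lemma. -/
theorem exists_morse :
    ∃ ε : Fin n → MvPowerSeries (Fin n) k, (∀ i, Vanish 2 (ε i)) ∧
      f = Q f (fun i => X i + ε i) := by
  classical
  obtain ⟨M, hM⟩ := exists_inverse f hJ
  let D := fun (g : MvPowerSeries (Fin n) k) (i : Fin n) => ∑ j, C (M j i) * divX j g
  have hD : ∀ g, Vanish 1 g → ∑ i, L f i * D g i = g := fun g hg => by
    conv_rhs => rw [← sum_X_mul_divX hg]
    simp only [D, Finset.mul_sum, hM, Finset.sum_mul]
    rw [Finset.sum_comm]
    exact Finset.sum_congr rfl fun j _ => Finset.sum_congr rfl fun i _ => by ring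
  have hDv : ∀ d g, Vanish (d + 1) g → ∀ i, Vanish d (D g i) := fun d g hg i =>
    Vanish.sum _ fun j _ => (hg.divX j).C_mul _
  have hDsub : ∀ g g' i, D (g - g') i = D g i - D g' i := fun g g' i => by
    simp only [D, divX_sub, mul_sub, Finset.sum_sub_distrib]
  let r := f - (quad f : MvPowerSeries (Fin n) k)
  let step := fun (u : Fin n → MvPowerSeries (Fin n) k) => fun i => D (r - Q f u) i
  let e : ℕ → Fin n → MvPowerSeries (Fin n) k := fun N => step^[N] 0
  have he : ∀ N, e (N + 1) = step (e N) := fun N => Function.iterate_succ_apply' step N 0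
  have hstep : ∀ u : Fin n → MvPowerSeries (Fin n) k, (∀ i, Vanish 2 (u i)) →
      ∀ i, Vanish 2 (step u i) := fun u hu =>
    hDv 2 _ ((vanish_three f hf0 hJ).sub ((vanish_Q f hu).mono (by omega)))
  have hcontr : ∀ (d : ℕ) (u v : Fin n → MvPowerSeries (Fin n) k), (∀ i, Vanish 2 (u i)) →
      (∀ i, Vanish 2 (v i)) → (∀ i, Vanish d (u i - v i)) →
      ∀ i, Vanish (d + 1) (step u i - step v i) := fun d u v hu hv huv i => by
    show Vanish (d + 1) (D (r - Q f u) i - D (r - Q f v) i)
    rw [← hDsub, sub_sub_sub_cancel_left]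
    refine hDv _ _ ?_ i
    have h := vanish_Q_sub f hv hu (e := d) fun i m hm => by
      rw [map_sub, sub_eq_zero]
      exact (sub_eq_zero.1 ((map_sub _ _ _).symm.trans (huv i m hm))).symm
    exact h.mono (by omega)
  have he2 : ∀ N i, Vanish 2 (e N i) := by
    intro N
    induction N with
    | zero => exact fun i m _ => by simp [e]
    | succ N ih => exact fun i => by rw [he]; exact hstep _ ih i
  have hcauchy : ∀ N i, Vanish N (e (N + 1) i - e N i) := by
    intro N
    induction N with
    | zero => exact fun i => vanish_zero _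
    | succ N ih =>
      intro i
      rw [he (N + 1)]
      nth_rewrite 2 [he N]
      exact hcontr N _ _ (he2 _) (he2 _) ih i
  have hstab : ∀ N N', N ≤ N' → ∀ i, Vanish N (e N' i - e N i) := by
    intro N N' h
    induction N', h using Nat.le_induction with
    | base => exact fun i => fun m _ => by rw [sub_self, map_zero]
    | succ N' hN ih =>
      intro i
      have e1 : e (N' + 1) i - e N i = (e (N' + 1) i - e N' i) + (e N' i - e N i) := by ring
      rw [e1]
      exact ((hcauchy N' i).mono hN).add (ih i)
  let ε : Fin n → MvPowerSeries (Fin n) k := fun i m => coeff m (e (m.degree + 1) i)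
  have hε : ∀ N i, Vanish N (ε i - e N i) := fun N i m hm => by
    have h := hstab (m.degree + 1) N hm i m (Nat.lt_succ_self _)
    rw [map_sub, sub_eq_zero] at h
    rw [map_sub, sub_eq_zero, h]
    rfl
  have hε2 : ∀ i, Vanish 2 (ε i) := fun i m hm => he2 _ i m hm
  refine ⟨ε, hε2, ?_⟩
  have hfix : ∀ i, ε i = step ε i := fun i => by
    refine MvPowerSeries.ext fun m => ?_
    have h1 := hε (m.degree + 1 + 1) i m (by omega)
    have h2 := hcontr (m.degree + 1) ε (e (m.degree + 1)) hε2 (he2 _) (hε _) i m (by omega)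
    rw [map_sub, sub_eq_zero] at h1 h2
    rw [h1, he, h2]
  rw [Q_add f _ _ rfl, Q_X]
  have hL : ∑ i, L f i * ε i = r - Q f ε := by
    rw [Finset.sum_congr rfl fun i _ => congrArg (L f i * ·) (hfix i)]
    exact hD _ (((vanish_three f hf0 hJ).sub ((vanish_Q f hε2).mono (by omega))).mono (by omega))
  rw [hL]
  ring

end Main

end Groth.Agent.H28Alg.Morse
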