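import Mathlib.RingTheory.Nullstellensatz
import Mathlib.Algebra.MvPolynomial.PDeriv
import Mathlib.Algebra.MvPolynomial.NoZeroDivisors
import Mathlib.FieldTheory.IsAlgClosed.AlgebraicClosure
import Mathlib.RingTheory.PrincipalIdealDomain
import Mathlib.RingTheory.Polynomial.Basic
import Mathlib.LinearAlgebra.FiniteDimensional.Basic
import Mathlib.Tactic.LinearCombination

/-!
# Plane quadrics in the square of an ideal
-/

namespace Groth.Agent.H28Alg.QuadricSquare

open MvPolynomial

variable {K : Type*} [Field K]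

/-- An affine form in two variables. -/
noncomputable def aff (a b c : K) : MvPolynomial (Fin 2) K := C a + C b * X 0 + C c * X 1

/-- A quadric in two variables. -/
noncomputable def quad (a b c d e f : K) : MvPolynomial (Fin 2) K :=
  C a + C b * X 0 + C c * X 1 + C d * X 0 ^ 2 + C e * X 0 * X 1 + C f * X 1 ^ 2

theorem exists_line {a b c : K} (h : b ≠ 0 ∨ c ≠ 0) :
    ∃ (π : MvPolynomial (Fin 2) K →ₐ[K] Polynomial K) (τ : MvPolynomial (Fin 2) K),
      (∃ t₀ t₁ t₂, τ = aff t₀ t₁ t₂) ∧ π τ = Polynomial.X ∧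
      (∀ P, π P = 0 ↔ aff a b c ∣ P) ∧ ∀ i, (π (X i)).natDegree ≤ 1 := by
  obtain ⟨v, τ, hτ, h0, h1, hv⟩ : ∃ (v : Fin 2 → K × K) (τ : MvPolynomial (Fin 2) K),
      (∃ t₀ t₁ t₂, τ = aff t₀ t₁ t₂) ∧
      (∀ i, aff a b c ∣ X i - (C (v i).1 + C (v i).2 * τ)) ∧
      aeval (fun i => Polynomial.C (v i).1 + Polynomial.C (v i).2 * Polynomial.X) τ
        = (Polynomial.X : Polynomial K) ∧
      aeval (fun i => Polynomial.C (v i).1 + Polynomial.C (v i).2 * Polynomial.X) (aff a b c)
        = (0 : Polynomial K) := by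
    by_cases hc : c = 0
    · have hb : b ≠ 0 := h.resolve_right (not_not_intro hc)
      refine ⟨![(-a / b, 0), (0, 1)], aff 0 0 1, ⟨0, 0, 1, rfl⟩, ?_, ?_, ?_⟩
      · intro i
        fin_cases i
        · refine ⟨C b⁻¹, ?_⟩
          have e1 : (C b : MvPolynomial (Fin 2) K) * C b⁻¹ = 1 := by
            rw [← map_mul, mul_inv_cancel₀ hb, map_one]
          simp [aff, hc, div_eq_mul_inv]
          linear_combination (-(X 0 : MvPolynomial (Fin 2) K)) * e1
        · exact ⟨0, by simp [aff]⟩
      · simp [aff]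
      · simp [aff, hc]
        rw [← Polynomial.C_mul, mul_div_cancel₀ _ hb]
        simp
    · refine ⟨![(0, 1), (-a / c, -b / c)], aff 0 1 0, ⟨0, 1, 0, rfl⟩, ?_, ?_, ?_⟩
      · intro i
        fin_cases i
        · exact ⟨0, by simp [aff]⟩
        · refine ⟨C c⁻¹, ?_⟩
          have e1 : (C c : MvPolynomial (Fin 2) K) * C c⁻¹ = 1 := by
            rw [← map_mul, mul_inv_cancel₀ hc, map_one]
          simp [aff, div_eq_mul_inv]
          linear_combination (-(X 1 : MvPolynomial (Fin 2) K)) * e1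
      · simp [aff]
      · have e1 : (Polynomial.C c : Polynomial K) * Polynomial.C c⁻¹ = 1 := by
          rw [← map_mul, mul_inv_cancel₀ hc, map_one]
        simp [aff, div_eq_mul_inv]
        linear_combination (-(Polynomial.C a + Polynomial.C b * Polynomial.X : Polynomial K)) * e1
  set π := aeval (R := K) (fun i => Polynomial.C (v i).1 + Polynomial.C (v i).2 * Polynomial.X)
  refine ⟨π, τ, hτ, h1, fun P => ⟨fun hP => ?_, ?_⟩, fun i => ?_⟩
  · let mk := Ideal.Quotient.mkₐ K (Ideal.span {aff a b c})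
    have : mk = ((mk.comp (Polynomial.aeval τ)).comp π) := by
      refine MvPolynomial.algHom_ext fun i => ?_
      simp only [π, AlgHom.comp_apply, aeval_X, map_add, map_mul, Polynomial.aeval_C,
        Polynomial.aeval_X, ← MvPolynomial.algebraMap_eq]
      rw [← map_mul, ← map_add]
      exact Ideal.Quotient.eq.2 (Ideal.mem_span_singleton.2 (h0 i))
    have := DFunLike.congr_fun this P
    simp only [AlgHom.comp_apply, hP, map_zero] at this
    exact Ideal.mem_span_singleton.1 (Ideal.Quotient.eq_zero_iff_mem.1 this)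
  · rintro ⟨r, rfl⟩
    rw [map_mul, hv, zero_mul]
  · simp only [π, aeval_X]
    rw [add_comm]
    exact Polynomial.natDegree_linear_le

/-- A point is critical for a product of two elements vanishing at it. -/
theorem eval_pderiv_mul_eq_zero {p : Fin 2 → K} {u v : MvPolynomial (Fin 2) K}
    (hu : eval p u = 0) (hv : eval p v = 0) (i : Fin 2) : eval p (pderiv i (u * v)) = 0 := by
  simp [pderiv_mul, hu, hv]

theorem eval_eq_zero_of_mem_sq {p : Fin 2 → K} {I : Ideal (MvPolynomial (Fin 2) K)}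
    (hI : ∀ u ∈ I, eval p u = 0) {q : MvPolynomial (Fin 2) K} (hq : q ∈ I ^ 2) :
    eval p q = 0 ∧ ∀ i, eval p (pderiv i q) = 0 := by
  rw [sq] at hq
  refine Submodule.mul_induction_on hq (fun u hu v hv => ⟨?_, ?_⟩) (fun u v hu hv => ⟨?_, ?_⟩)
  · simp [hI u hu]
  · exact eval_pderiv_mul_eq_zero (hI u hu) (hI v hv)
  · simp [hu.1, hv.1]
  · exact fun i => by simp [hu.2 i, hv.2 i]

theorem exists_forall_eval_eq_zero [IsAlgClosed K] {I : Ideal (MvPolynomial (Fin 2) K)}
    (hI : I ≠ ⊤) : ∃ p : Fin 2 → K, ∀ u ∈ I, eval p u = 0 := by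
  obtain ⟨M, hM, hIM⟩ := Ideal.exists_le_maximal I hI
  obtain ⟨p, rfl⟩ := (MvPolynomial.isMaximal_iff_eq_vanishingIdeal_singleton (σ := Fin 2)).1 hM
  refine ⟨p, fun u hu => ?_⟩
  have := hIM hu
  simpa [MvPolynomial.mem_vanishingIdeal_iff, MvPolynomial.aeval_eq_eval] using this

theorem pderiv_aff (a b c : K) : pderiv 0 (aff a b c) = C b ∧ pderiv 1 (aff a b c) = C c := by
  constructor <;> simp [aff, pderiv_mul, pderiv_X, Pi.single_apply]

/-- Over an algebraically closed field, a product of two nonconstant affine forms is not in the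
square of an ideal containing no nonzero affine form. -/
theorem not_mul_aff_mem_sq [IsAlgClosed K] {I : Ideal (MvPolynomial (Fin 2) K)}
    (hI : ∀ a b c, aff a b c ∈ I → a = 0 ∧ b = 0 ∧ c = 0) {a b c a' b' c' : K}
    (hl : b ≠ 0 ∨ c ≠ 0) (hm : b' ≠ 0 ∨ c' ≠ 0) : aff a b c * aff a' b' c' ∉ I ^ 2 := by
  classical
  intro hmem
  obtain ⟨π, τ, -, hπτ, hker, -⟩ := exists_line (a := a) hl
  set l := aff a b c with hldef
  set m := aff a' b' c'
  have hl0 : l ≠ 0 := fun e => by
    rcases hl with hb | hc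
    · exact hb (hI a b c (hldef ▸ e ▸ I.zero_mem)).2.1
    · exact hc (hI a b c (hldef ▸ e ▸ I.zero_mem)).2.2
  have hπs : Function.Surjective π := fun P =>
    ⟨Polynomial.aeval τ P, by rw [← Polynomial.aeval_algHom_apply, hπτ, Polynomial.aeval_X_left_apply]⟩
  let J : Ideal (MvPolynomial (Fin 2) K) :=
    Submodule.comap (LinearMap.mulLeft (MvPolynomial (Fin 2) K) l) I
  have hJ : ∀ u, u ∈ J ↔ l * u ∈ I := fun u => Iff.rfl
  have hJtop : J ≠ ⊤ := fun e => by
    have h1 : l * 1 ∈ I := (hJ 1).1 (e ▸ Submodule.mem_top)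
    rw [mul_one] at h1
    exact hl.elim (fun h => h (hI a b c h1).2.1) fun h => h (hI a b c h1).2.2
  -- choose `f` generating `I` modulo `l`
  obtain ⟨f, hfI, hfgen, hf⟩ : ∃ f ∈ I, (∀ i ∈ I, ∃ u, ∃ j ∈ J, i = u * f + l * j) ∧
      (f = 0 ∨ ¬ l ∣ f) := by
    obtain ⟨g, hg⟩ := (IsPrincipalIdealRing.principal (I.map π.toRingHom)).1
    obtain ⟨f, hfI, hfg⟩ := (Ideal.mem_map_iff_of_surjective π.toRingHom hπs).1
      (hg ▸ Submodule.mem_span_singleton_self g)
    change π f = g at hfg
    have hgen : ∀ i ∈ I, ∃ u, l ∣ i - u * f := by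
      intro i hi
      have : π i ∈ I.map π.toRingHom := Ideal.mem_map_of_mem π.toRingHom hi
      rw [hg] at this
      obtain ⟨w, hw⟩ := Submodule.mem_span_singleton.1 this
      obtain ⟨u, rfl⟩ := hπs w
      refine ⟨u, (hker _).1 ?_⟩
      rw [map_sub, map_mul, hfg, ← hw, smul_eq_mul, sub_self]
    by_cases hdvd : l ∣ f
    · refine ⟨0, I.zero_mem, fun i hi => ?_, Or.inl rfl⟩
      obtain ⟨u, hu⟩ := hgen i hi
      obtain ⟨j, hj⟩ : l ∣ i := by simpa using dvd_add hu (hdvd.mul_left u)
      exact ⟨0, j, (hJ j).2 (hj ▸ hi), by simp [hj]⟩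
    · refine ⟨f, hfI, fun i hi => ?_, Or.inr hdvd⟩
      obtain ⟨u, j, hj⟩ := hgen i hi
      exact ⟨u, j, (hJ j).2 (hj ▸ I.sub_mem hi (I.mul_mem_left u hfI)), by rw [← hj]; ring⟩
  -- normal form of elements of `I ^ 2`
  have hnf : ∀ w ∈ I ^ 2, ∃ A, ∃ j ∈ J, ∃ j₂ ∈ J ^ 2, w = f * f * A + f * l * j + l * l * j₂ := by
    intro w hw
    rw [sq] at hw
    refine Submodule.mul_induction_on hw (fun i hi i' hi' => ?_) ?_
    · obtain ⟨u, j, hj, rfl⟩ := hfgen i hi
      obtain ⟨u', j', hj', rfl⟩ := hfgen i' hi'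
      exact ⟨u * u', u * j' + u' * j, J.add_mem (J.mul_mem_left _ hj') (J.mul_mem_left _ hj),
        j * j', by rw [sq]; exact Ideal.mul_mem_mul hj hj', by ring⟩
    · rintro _ _ ⟨A, j, hj, j₂, hj₂, rfl⟩ ⟨A', j', hj', j₂', hj₂', rfl⟩
      exact ⟨A + A', j + j', J.add_mem hj hj', j₂ + j₂', Ideal.add_mem _ hj₂ hj₂', by ring⟩
  obtain ⟨A, j, hj, j₂, hj₂, heq⟩ := hnf _ hmem
  obtain ⟨A', hA'⟩ : ∃ A', m = f * f * A' + f * j + l * j₂ := by
    rcases hf with rfl | hf
    · exact ⟨0, mul_left_cancel₀ hl0 (by linear_combination heq)⟩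
    · have hdvd : l ∣ f * f * A := ⟨m - f * j - l * j₂, by linear_combination -heq⟩
      rw [← hker, map_mul, map_mul] at hdvd
      have hfne : π f ≠ 0 := fun e => hf ((hker f).1 e)
      obtain ⟨A', rfl⟩ := (hker A).1 (by simpa [hfne] using hdvd)
      exact ⟨A', mul_left_cancel₀ hl0 (by linear_combination heq)⟩
  obtain ⟨p, hp⟩ := exists_forall_eval_eq_zero hJtop
  have hIJ : I ≤ J := fun u hu => (hJ u).2 (I.mul_mem_left l hu)
  have hp' : ∀ u ∈ I, eval p u = 0 := fun u hu => hp u (hIJ hu)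
  obtain ⟨h1, h2⟩ := eval_eq_zero_of_mem_sq hp' hmem
  have hlp : eval p l = 0 := by
    by_contra hne
    have hmp : eval p m = 0 := by simpa [hne] using h1
    rcases hm with h | h
    · exact h (by simpa [pderiv_mul, hmp, hne, m, (pderiv_aff a' b' c').1] using h2 0)
    · exact h (by simpa [pderiv_mul, hmp, hne, m, (pderiv_aff a' b' c').2] using h2 1)
  have hm0 : ∀ i, eval p (pderiv i m) = 0 := fun i => by
    obtain ⟨e1, e2⟩ := eval_eq_zero_of_mem_sq hp hj₂
    rw [hA', map_add, map_add, map_add, map_add, pderiv_mul (f := f * f)]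
    simp [pderiv_mul, hp' f hfI, hp j hj, hlp, e1]
  rcases hm with h | h
  · exact h (by simpa [m, (pderiv_aff a' b' c').1] using hm0 0)
  · exact h (by simpa [m, (pderiv_aff a' b' c').2] using hm0 1)

/-- Over an algebraically closed field, a nonzero quadric is not in the square of an ideal
containing no nonzero affine form. -/
theorem not_quad_mem_sq [IsAlgClosed K] {I : Ideal (MvPolynomial (Fin 2) K)}
    (hI : ∀ a b c, aff a b c ∈ I → a = 0 ∧ b = 0 ∧ c = 0) (a b c d e f : K)
    (hne : quad a b c d e f ≠ 0) : quad a b c d e f ∉ I ^ 2 := by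
  intro hmem
  have hItop : I ≠ ⊤ := fun h => one_ne_zero (hI 1 0 0 (h ▸ Submodule.mem_top)).1
  obtain ⟨p, hp⟩ := exists_forall_eval_eq_zero hItop
  obtain ⟨h0, h12⟩ := eval_eq_zero_of_mem_sq hp hmem
  have e0 : a + b * p 0 + c * p 1 + d * p 0 ^ 2 + e * p 0 * p 1 + f * p 1 ^ 2 = 0 := by
    simpa [quad] using h0
  have e1 : b + d * (2 * p 0) + e * p 1 = 0 := by
    have := h12 0
    simp [quad, pderiv_mul, pderiv_pow, pderiv_X, Pi.single_apply] at this
    linear_combination this
  have e2 : c + e * p 0 + f * (2 * p 1) = 0 := by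
    have := h12 1
    simp [quad, pderiv_mul, pderiv_pow, pderiv_X, Pi.single_apply] at this
    linear_combination this
  set x : MvPolynomial (Fin 2) K := X 0 - C (p 0) with hx
  set y : MvPolynomial (Fin 2) K := X 1 - C (p 1) with hy
  have hq : quad a b c d e f = C d * x ^ 2 + C e * x * y + C f * y ^ 2 := by
    have c0 := congrArg (C : K → MvPolynomial (Fin 2) K) e0
    have c1 := congrArg (C : K → MvPolynomial (Fin 2) K) e1
    have c2 := congrArg (C : K → MvPolynomial (Fin 2) K) e2
    simp only [map_add, map_mul, map_pow, map_zero, map_ofNat] at c0 c1 c2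
    simp only [quad, hx, hy]
    linear_combination c0 + c1 * x + c2 * y
  have aff_eq : ∀ s t : K, C s * x + C t * y = aff (-(s * p 0) - t * p 1) s t := fun s t => by
    simp only [aff, hx, hy, map_sub, map_neg, map_mul]; ring
  rw [hq] at hmem hne
  by_cases hd : d = 0
  · have hfe : e ≠ 0 ∨ f ≠ 0 := by
      by_contra! h
      exact hne (by simp [hd, h.1, h.2])
    refine not_mul_aff_mem_sq hI (a := -((0 : K) * p 0) - 1 * p 1) (b := 0) (c := 1) (Or.inr one_ne_zero)
      (a' := -(e * p 0) - f * p 1) (b' := e) (c' := f) hfe ?_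
    rw [← aff_eq, ← aff_eq]
    convert hmem using 1
    simp [hd]; ring
  · obtain ⟨s, hs⟩ := IsAlgClosed.exists_root (Polynomial.C d * Polynomial.X ^ 2 +
      Polynomial.C e * Polynomial.X + Polynomial.C f) (by
        rw [Polynomial.degree_quadratic hd]; decide)
    have hs' : d * s ^ 2 + e * s + f = 0 := by simpa using hs
    refine not_mul_aff_mem_sq hI (a := -((1 : K) * p 0) - -s * p 1) (b := 1) (c := -s) (Or.inl one_ne_zero)
      (a' := -(d * p 0) - (d * s + e) * p 1) (b' := d) (c' := d * s + e) (Or.inl hd) ?_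
    rw [← aff_eq, ← aff_eq]
    convert hmem using 1
    have hsC := congrArg (C : K → MvPolynomial (Fin 2) K) hs'
    simp only [map_add, map_mul, map_pow, map_zero] at hsC
    simp only [map_add, map_mul, map_neg, map_one]
    linear_combination (-y ^ 2) * hsC

theorem aff_smul (k a b c : K) : C k * aff a b c = aff (k * a) (k * b) (k * c) := by
  simp only [aff, map_mul]; ring

theorem exists_aff_of_totalDegree_le_one {P : MvPolynomial (Fin 2) K} (h : P.totalDegree ≤ 1) :
    ∃ a b c, P = aff a b c := by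
  classical
  refine ⟨coeff 0 P, coeff (Finsupp.single 0 1) P, coeff (Finsupp.single 1 1) P, ?_⟩
  have hm : ∀ m ∈ P.support, m 0 + m 1 ≤ 1 := fun m hm => by
    have := (MvPolynomial.le_totalDegree hm).trans h
    rw [Finsupp.sum_fintype] at this
    · simpa [Fin.sum_univ_two] using this
    · intro; rfl
  ext m
  have hcases : coeff m P ≠ 0 → m = 0 ∨ m = Finsupp.single 0 1 ∨ m = Finsupp.single 1 1 := fun hne => by
    have := hm m (mem_support_iff.2 hne)
    rcases (by omega : (m 0 = 0 ∧ m 1 = 0) ∨ (m 0 = 1 ∧ m 1 = 0) ∨ (m 0 = 0 ∧ m 1 = 1)) with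
      ⟨u, v⟩ | ⟨u, v⟩ | ⟨u, v⟩
    · exact Or.inl (by ext i; fin_cases i <;> simp [u, v])
    · exact Or.inr (Or.inl (by ext i; fin_cases i <;> simp [u, v, Finsupp.single_apply]))
    · exact Or.inr (Or.inr (by ext i; fin_cases i <;> simp [u, v, Finsupp.single_apply]))
  simp only [aff, coeff_add, coeff_C, coeff_C_mul, coeff_X]
  by_cases hne : coeff m P = 0
  · rw [hne]
    split_ifs with h0 h1 h2 h2 h1 h2 h2 <;> simp_all
  · rcases hcases hne with rfl | rfl | rfl <;> simp [Finsupp.single_eq_single_iff, eq_comm]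

theorem totalDegree_quad_le (a b c d e f : K) : (quad a b c d e f).totalDegree ≤ 2 := by
  have hX : ∀ (k : K) (i : Fin 2), (C k * X i : MvPolynomial (Fin 2) K).totalDegree ≤ 1 := fun k i =>
    (totalDegree_mul _ _).trans (by simp)
  have hX2 : ∀ (k : K) (i : Fin 2), (C k * X i ^ 2 : MvPolynomial (Fin 2) K).totalDegree ≤ 2 := by
    intro k i
    refine (totalDegree_mul _ _).trans ?_
    rw [totalDegree_C, zero_add]
    exact (totalDegree_pow _ _).trans (by simp)
  have hXX : (C e * X 0 * X 1 : MvPolynomial (Fin 2) K).totalDegree ≤ 2 :=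
    (totalDegree_mul _ _).trans (Nat.add_le_add (hX _ _) (totalDegree_X _).le)
  have hC : (C a : MvPolynomial (Fin 2) K).totalDegree ≤ 2 := (totalDegree_C _).trans_le (Nat.zero_le _)
  exact (totalDegree_add _ _).trans (max_le ((totalDegree_add _ _).trans (max_le
    ((totalDegree_add _ _).trans (max_le ((totalDegree_add _ _).trans (max_le
      ((totalDegree_add _ _).trans (max_le hC ((hX _ _).trans one_le_two)))
      ((hX _ _).trans one_le_two))) (hX2 _ _))) hXX)) (hX2 _ _))

/-- If an ideal contains a nonzero affine form `l` and all its affine forms are multiples of `l`,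
then a quadric in its square is a multiple of `l ^ 2`. -/
theorem eq_mul_sq_of_mem {I : Ideal (MvPolynomial (Fin 2) K)} {a b c : K} (hl : b ≠ 0 ∨ c ≠ 0)
    (hlI : aff a b c ∈ I) (hdep : ∀ a' b' c', aff a' b' c' ∈ I → ∃ k, aff a' b' c' = C k * aff a b c)
    (q₀ q₁ q₂ q₃ q₄ q₅ : K) (hq : quad q₀ q₁ q₂ q₃ q₄ q₅ ∈ I ^ 2) :
    ∃ k, quad q₀ q₁ q₂ q₃ q₄ q₅ = C k * aff a b c ^ 2 := by
  classical
  obtain ⟨π, τ, ⟨t₀, t₁, t₂, hτaff⟩, hπτ, hker, hdeg⟩ := exists_line (a := a) hl
  set l := aff a b c with hldef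
  set q := quad q₀ q₁ q₂ q₃ q₄ q₅ with hqdef
  have hπs : Function.Surjective π := fun P =>
    ⟨Polynomial.aeval τ P, by rw [← Polynomial.aeval_algHom_apply, hπτ, Polynomial.aeval_X_left_apply]⟩
  have hIker : ∀ P, π P = 0 → P ∈ I := fun P hP => by
    obtain ⟨r, rfl⟩ := (hker P).1 hP
    exact I.mul_mem_right r hlI
  obtain ⟨g, hg⟩ := (IsPrincipalIdealRing.principal (I.map π.toRingHom)).1
  -- a linear generator modulo `l` would give an independent affine form
  have hglin : g.natDegree ≤ 1 → g = 0 := by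
    intro hg1
    obtain ⟨f, hfI, hfg⟩ := (Ideal.mem_map_iff_of_surjective π.toRingHom hπs).1
      (hg ▸ Submodule.mem_span_singleton_self g)
    change π f = g at hfg
    let L := C (g.coeff 0) + C (g.coeff 1) * τ
    have hπL : π L = g := by
      conv_rhs => rw [Polynomial.eq_X_add_C_of_natDegree_le_one hg1]
      simp [L, hπτ, ← MvPolynomial.algebraMap_eq]
      ring
    have hLI : L ∈ I := by
      have := I.sub_mem hfI (hIker (f - L) (by rw [map_sub, hfg, hπL, sub_self]))
      simpa using this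
    have hLaff : L = aff (g.coeff 0 + g.coeff 1 * t₀) (g.coeff 1 * t₁) (g.coeff 1 * t₂) := by
      simp only [L, hτaff, aff, map_add, map_mul]; ring
    obtain ⟨k, hk⟩ := hdep _ _ _ (hLaff ▸ hLI)
    rw [← hπL, hLaff, hk, map_mul, (hker l).2 dvd_rfl, mul_zero]
  have hπq : (π q).natDegree ≤ 2 := by
    have hC : ∀ k : K, π (C k) = Polynomial.C k := fun k => π.commutes k
    simp only [hqdef, quad, map_add, map_mul, map_pow, hC]
    have hC1 : ∀ (k : K) (i : Fin 2), (Polynomial.C k * π (X i)).natDegree ≤ 1 := fun k i =>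
      (Polynomial.natDegree_C_mul_le _ _).trans (hdeg i)
    have hC2 : ∀ (k : K) (i : Fin 2), (Polynomial.C k * π (X i) ^ 2).natDegree ≤ 2 := fun k i =>
      (Polynomial.natDegree_C_mul_le _ _).trans
        (Polynomial.natDegree_pow_le.trans (Nat.mul_le_mul_left 2 (hdeg i)))
    exact Polynomial.natDegree_add_le_of_degree_le (Polynomial.natDegree_add_le_of_degree_le
      (Polynomial.natDegree_add_le_of_degree_le (Polynomial.natDegree_add_le_of_degree_le
        (Polynomial.natDegree_add_le_of_degree_le ((Polynomial.natDegree_C _).trans_le (Nat.zero_le _))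
          ((hC1 _ _).trans one_le_two)) ((hC1 _ _).trans one_le_two)) (hC2 _ _))
      (Polynomial.natDegree_mul_le.trans (Nat.add_le_add (hC1 _ _) (hdeg 1)))) (hC2 _ _)
  have hπq0 : π q = 0 := by
    have : π q ∈ (I.map π.toRingHom) ^ 2 := by
      rw [← Ideal.map_pow]; exact Ideal.mem_map_of_mem π.toRingHom hq
    rw [hg, Ideal.submodule_span_eq, Ideal.span_singleton_pow, Ideal.mem_span_singleton] at this
    by_contra hne
    have hg0 : g ≠ 0 := by rintro rfl; exact hne (by simpa using this)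
    have h2 := Polynomial.natDegree_le_of_dvd this hne
    rw [Polynomial.natDegree_pow] at h2
    exact hg0 (hglin (by omega))
  obtain ⟨m, hqm⟩ := (hker q).1 hπq0
  by_cases hm0 : m = 0
  · exact ⟨0, by rw [hqm, hm0]; simp⟩
  have hl0 : l ≠ 0 := fun e => by
    have := congrArg (MvPolynomial.pderiv (R := K) 0) e
    have := congrArg (MvPolynomial.pderiv (R := K) 1) e
    rw [hldef] at *
    simp [(pderiv_aff a b c).1, (pderiv_aff a b c).2] at *
    tauto
  have hldeg : 1 ≤ l.totalDegree := by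
    by_contra h
    rw [not_le, Nat.lt_one_iff, totalDegree_eq_zero_iff_eq_C] at h
    have e0 := congrArg (MvPolynomial.pderiv (R := K) 0) h
    have e1 := congrArg (MvPolynomial.pderiv (R := K) 1) h
    rw [hldef, (pderiv_aff a b c).1, pderiv_C] at e0
    rw [hldef, (pderiv_aff a b c).2, pderiv_C] at e1
    simp at e0 e1
    tauto
  have hmdeg : m.totalDegree ≤ 1 := by
    have := totalDegree_quad_le q₀ q₁ q₂ q₃ q₄ q₅
    rw [← hqdef, hqm, totalDegree_mul_of_isDomain hl0 hm0] at this
    omega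
  -- `m` lies in `I`
  obtain ⟨f, hfI, hfg⟩ := (Ideal.mem_map_iff_of_surjective π.toRingHom hπs).1
    (hg ▸ Submodule.mem_span_singleton_self g)
  change π f = g at hfg
  have hgen : ∀ i ∈ I, ∃ u r, i = u * f + l * r := by
    intro i hi
    have : π i ∈ I.map π.toRingHom := Ideal.mem_map_of_mem π.toRingHom hi
    rw [hg] at this
    obtain ⟨w, hw⟩ := Submodule.mem_span_singleton.1 this
    obtain ⟨u, rfl⟩ := hπs w
    obtain ⟨r, hr⟩ := (hker (i - u * f)).1 (by rw [map_sub, map_mul, hfg, ← hw, smul_eq_mul, sub_self])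
    exact ⟨u, r, by rw [← hr]; ring⟩
  have hnf : ∀ w ∈ I ^ 2, ∃ A, ∃ i ∈ I, w = f * f * A + l * i := by
    intro w hw
    rw [sq] at hw
    refine Submodule.mul_induction_on hw (fun i hi i' hi' => ?_) ?_
    · obtain ⟨u, r, rfl⟩ := hgen i hi
      obtain ⟨u', r', rfl⟩ := hgen i' hi'
      exact ⟨u * u', u * r' * f + r * u' * f + l * r * r', I.add_mem
        (I.add_mem (I.mul_mem_left _ hfI) (I.mul_mem_left _ hfI))
        (I.mul_mem_right _ (I.mul_mem_right _ hlI)), by ring⟩
    · rintro _ _ ⟨A, i, hi, rfl⟩ ⟨A', i', hi', rfl⟩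
      exact ⟨A + A', i + i', I.add_mem hi hi', by ring⟩
  obtain ⟨A, i, hi, heq⟩ := hnf q hq
  have hmI : m ∈ I := by
    by_cases hg0 : g = 0
    · obtain ⟨f', rfl⟩ := (hker f).1 (hfg.trans hg0)
      have : m = l * f' * f' * A + i := mul_left_cancel₀ hl0 (by linear_combination heq - hqm)
      rw [this]
      exact I.add_mem (I.mul_mem_right _ (I.mul_mem_right _ (I.mul_mem_right _ hlI))) hi
    · have hdvd : π (f * f * A) = 0 := (hker _).2 ⟨m - i, by linear_combination hqm - heq⟩
      rw [map_mul, map_mul, hfg] at hdvd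
      obtain ⟨A', rfl⟩ := (hker A).1 (by simpa [hg0] using hdvd)
      have : m = f * (f * A') + i := mul_left_cancel₀ hl0 (by linear_combination heq - hqm)
      rw [this]
      exact I.add_mem (I.mul_mem_right _ hfI) hi
  obtain ⟨a', b', c', rfl⟩ := exists_aff_of_totalDegree_le_one hmdeg
  obtain ⟨k, hk⟩ := hdep _ _ _ hmI
  exact ⟨k, by rw [hqm, hk]; ring⟩

/-- If an ideal of `κ[x,y]` contains two independent affine forms, its colength is at most one. -/
theorem finite_finrank_le_one {I : Ideal (MvPolynomial (Fin 2) K)} {a b c a' b' c' : K}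
    (hl : aff a b c ∈ I) (hl' : aff a' b' c' ∈ I) (hdet : b * c' - b' * c ≠ 0) :
    Module.Finite K (MvPolynomial (Fin 2) K ⧸ I) ∧
      Module.finrank K (MvPolynomial (Fin 2) K ⧸ I) ≤ 1 := by
  set D := b * c' - b' * c with hD
  let p : Fin 2 → K := ![-(c' * a - c * a') / D, -(b * a' - b' * a) / D]
  have hX : ∀ i, X i - C (p i) ∈ I := by
    have e : (C D⁻¹ : MvPolynomial (Fin 2) K) * C D = 1 := by
      rw [← map_mul, inv_mul_cancel₀ hdet, map_one]
    intro i
    fin_cases i
    · have : (X 0 - C (p 0) : MvPolynomial (Fin 2) K) =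
          C D⁻¹ * (C c' * aff a b c - C c * aff a' b' c') := by
        simp only [p, aff, Matrix.cons_val_zero, div_eq_mul_inv, map_mul, map_sub, map_neg]
        simp only [hD, map_mul, map_sub] at e
        linear_combination (-(X 0 : MvPolynomial (Fin 2) K)) * e
      simpa [this] using I.mul_mem_left (C D⁻¹) (I.sub_mem (I.mul_mem_left (C c') hl) (I.mul_mem_left (C c) hl'))
    · have : (X 1 - C (p 1) : MvPolynomial (Fin 2) K) =
          C D⁻¹ * (C b * aff a' b' c' - C b' * aff a b c) := by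
        simp only [p, aff, Matrix.cons_val_one, Matrix.cons_val_zero, div_eq_mul_inv, map_mul, map_sub, map_neg]
        simp only [hD, map_mul, map_sub] at e
        linear_combination (-(X 1 : MvPolynomial (Fin 2) K)) * e
      simpa [this] using I.mul_mem_left (C D⁻¹) (I.sub_mem (I.mul_mem_left (C b) hl') (I.mul_mem_left (C b') hl))
  have hsurj : Function.Surjective (Algebra.linearMap K (MvPolynomial (Fin 2) K ⧸ I)) := by
    intro x
    obtain ⟨P, rfl⟩ := Ideal.Quotient.mk_surjective x
    refine ⟨eval p P, ?_⟩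
    have : (Ideal.Quotient.mkₐ K I) =
        ((Algebra.ofId K (MvPolynomial (Fin 2) K ⧸ I)).comp (MvPolynomial.aeval p)) := by
      refine MvPolynomial.algHom_ext fun i => ?_
      simp only [AlgHom.comp_apply, aeval_X]
      exact Ideal.Quotient.eq.2 (hX i)
    have := DFunLike.congr_fun this P
    simpa [MvPolynomial.aeval_eq_eval] using this.symm
  exact ⟨Module.Finite.of_surjective _ hsurj,
    (LinearMap.finrank_le_finrank_of_surjective hsurj).trans (Module.finrank_self K).le⟩

/-- No nonzero quadric lies in the square of an ideal containing no nonzero affine form. -/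
theorem quad_eq_zero_of_mem_sq {I : Ideal (MvPolynomial (Fin 2) K)}
    (hI : ∀ a b c, aff a b c ∈ I → a = 0 ∧ b = 0 ∧ c = 0) (a b c d e f : K)
    (hq : quad a b c d e f ∈ I ^ 2) : quad a b c d e f = 0 := by
  classical
  let φ := MvPolynomial.map (σ := Fin 2) (algebraMap K (AlgebraicClosure K))
  by_contra hne
  have haff : ∀ a b c, φ (aff a b c) = aff (algebraMap K _ a) (algebraMap K _ b) (algebraMap K _ c) := by
    intro a b c; simp [φ, aff]
  have hquad : φ (quad a b c d e f) = quad (algebraMap K (AlgebraicClosure K) a) (algebraMap K _ b)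
      (algebraMap K _ c) (algebraMap K _ d) (algebraMap K _ e) (algebraMap K _ f) := by
    simp [φ, quad]
  refine not_quad_mem_sq (I := I.map φ) ?_ _ _ _ _ _ _ ?_
    (hquad ▸ Ideal.map_pow φ I 2 ▸ Ideal.mem_map_of_mem φ hq)
  · intro A B C' hmem
    -- apply linear functionals coefficientwise
    have key : ∀ lam : AlgebraicClosure K →ₗ[K] K, ∀ P ∈ I.map φ,
        ∃ Q ∈ I, ∀ m, coeff m Q = lam (coeff m P) := by
      intro lam P hP
      let Λ : MvPolynomial (Fin 2) (AlgebraicClosure K) → MvPolynomial (Fin 2) K := fun P =>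
        ∑ s ∈ P.support, monomial s (lam (coeff s P))
      have hΛ : ∀ P m, coeff m (Λ P) = lam (coeff m P) := fun P m => by
        simp only [Λ, coeff_sum, coeff_monomial, Finset.sum_ite_eq', mem_support_iff]
        split_ifs with h
        · rfl
        · rw [not_not.1 h, map_zero]
      have hmul : ∀ i r, Λ (r * φ i) = Λ r * i := fun i r => by
        ext m
        simp only [hΛ, coeff_mul, map_sum, φ, coeff_map]
        refine Finset.sum_congr rfl fun x _ => ?_
        rw [mul_comm (coeff x.1 r), ← Algebra.smul_def, map_smul, smul_eq_mul, mul_comm]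
      refine ⟨Λ P, ?_, hΛ P⟩
      refine Submodule.span_induction (p := fun P _ => ∀ r, Λ (r * P) ∈ I) ?_ ?_ ?_ ?_ hP 1
        |> fun h => by simpa using h
      · rintro _ ⟨i, hi, rfl⟩ r
        rw [hmul]
        exact I.mul_mem_left _ hi
      · intro r
        have : Λ (r * 0) = 0 := by ext m; simp [hΛ]
        rw [this]; exact I.zero_mem
      · intro x y _ _ hx hy r
        have : Λ (r * (x + y)) = Λ (r * x) + Λ (r * y) := by ext m; simp [hΛ, mul_add]
        rw [this]; exact I.add_mem (hx r) (hy r)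
      · intro s x _ hx r
        rw [smul_eq_mul, ← mul_assoc]
        exact hx _
    have hzero : ∀ lam : AlgebraicClosure K →ₗ[K] K, lam A = 0 ∧ lam B = 0 ∧ lam C' = 0 := by
      intro lam
      obtain ⟨Q, hQI, hQ⟩ := key lam _ hmem
      have : Q = aff (lam A) (lam B) (lam C') := by
        ext m
        rw [hQ]
        simp only [aff, coeff_add, coeff_C, coeff_C_mul, coeff_X]
        split_ifs <;> simp
      exact hI _ _ _ (this ▸ hQI)
    exact ⟨(Module.forall_dual_apply_eq_zero_iff K A).1 fun lam => (hzero lam).1,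
      (Module.forall_dual_apply_eq_zero_iff K B).1 fun lam => (hzero lam).2.1,
      (Module.forall_dual_apply_eq_zero_iff K C').1 fun lam => (hzero lam).2.2⟩
  · rw [← hquad]
    exact fun h => hne (MvPolynomial.map_injective _ (algebraMap K (AlgebraicClosure K)).injective
      (h.trans (map_zero φ).symm))

end Groth.Agent.H28Alg.QuadricSquare
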