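import Groth.Agent.H02CA.RegularQuotient
import Mathlib.RingTheory.RegularLocalRing.Polynomial
import Mathlib.Algebra.DualNumber
import Mathlib.AlgebraicGeometry.EllipticCurve.Affine.Point
import Mathlib.RingTheory.DiscreteValuationRing.Basic

/-!
# Regularity of hypersurfaces and of Weierstrass equations
-/

namespace Groth.Agent.H28Alg

open IsLocalRing Polynomial

universe u

theorem isRegular_localization_of_hypersurface {S A : Type u} [CommRing S] [CommRing A] [IsRegularRing S]
    (f : S →+* A) (hf : Function.Surjective f) (F : S) (hker : RingHom.ker f = Ideal.span {F})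
    (P : Ideal A) [P.IsPrime] (h : ∀ s ∉ P.comap f, s * F ∉ (P.comap f) ^ 2) :
    IsRegularLocalRing (Localization.AtPrime P) := by
  set Q := P.comap f with hQ
  have : Q.IsPrime := Ideal.IsPrime.comap f
  set SQ := Localization.AtPrime Q
  have hFQ : F ∈ Q := by
    show f F ∈ P
    rw [RingHom.mem_ker.1 (hker ▸ Ideal.mem_span_singleton_self F : F ∈ RingHom.ker f)]
    exact zero_mem _
  have hreg : IsRegularLocalRing SQ := IsRegularRing.isRegularLocalRing_localization Q
  let F' : SQ := algebraMap S SQ F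
  have hF' : F' ∈ maximalIdeal SQ := (IsLocalization.AtPrime.to_map_mem_maximal_iff SQ Q F).2 hFQ
  have hind : ∀ a : Fin 1 → SQ, ∑ j, a j * (fun _ => F') j ∈ maximalIdeal SQ ^ 2 → ∀ j, a j ∈ maximalIdeal SQ := by
    intro a ha j
    fin_cases j
    by_contra hu
    have hau : IsUnit (a 0) := by simpa [mem_nonunits_iff] using hu
    simp only [Fin.sum_univ_one] at ha
    rw [Ideal.unit_mul_mem_iff_mem _ hau, ← Localization.AtPrime.map_eq_maximalIdeal (I := Q), ← Ideal.map_pow,
      IsLocalization.algebraMap_mem_map_algebraMap_iff Q.primeCompl] at ha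
    obtain ⟨t, ht, ht'⟩ := ha
    exact h t ht ht'
  have hq := (H02CA.regular_quotient_of_independent (fun _ : Fin 1 => F') (fun _ => hF') hind).1
  rw [show Set.range (fun _ : Fin 1 => F') = {F'} from Set.range_const] at hq
  let g : SQ →+* Localization.AtPrime P := Localization.localRingHom Q P f hQ
  have hgsurj : Function.Surjective g := fun z => by
    obtain ⟨⟨a, s⟩, rfl⟩ := IsLocalization.mk'_surjective P.primeCompl z
    obtain ⟨a', rfl⟩ := hf a
    obtain ⟨s, hs⟩ := s
    obtain ⟨s', rfl⟩ := hf s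
    exact ⟨IsLocalization.mk' SQ a' (⟨s', hs⟩ : Q.primeCompl), Localization.localRingHom_mk' Q P f hQ a' ⟨s', hs⟩⟩
  have hgker : RingHom.ker g = Ideal.span {F'} := by
    refine le_antisymm (fun z hz => ?_) ?_
    · obtain ⟨⟨a, s⟩, rfl⟩ := IsLocalization.mk'_surjective Q.primeCompl z
      rw [RingHom.mem_ker, Localization.localRingHom_mk', IsLocalization.mk'_eq_zero_iff] at hz
      obtain ⟨⟨t, ht⟩, hta⟩ := hz
      obtain ⟨t', rfl⟩ := hf t
      obtain ⟨c, hc⟩ := Ideal.mem_span_singleton.1 (hker ▸ (show t' * a ∈ RingHom.ker f by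
        rw [RingHom.mem_ker, map_mul]; exact hta))
      rw [Ideal.mem_span_singleton]
      refine ⟨IsLocalization.mk' SQ c ((⟨t', ht⟩ : Q.primeCompl) * s), ?_⟩
      rw [IsLocalization.mul_mk'_eq_mk'_of_mul, ← hc, mul_comm t' a]
      rw [IsLocalization.mk'_eq_iff_eq]
      congr 1
      simp only [Submonoid.coe_mul]
      ring
    · rw [Ideal.span_singleton_le_iff_mem, RingHom.mem_ker, Localization.localRingHom_to_map,
        RingHom.mem_ker.1 (hker ▸ Ideal.mem_span_singleton_self F : F ∈ RingHom.ker f), map_zero]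
  exact IsRegularLocalRing.of_ringEquiv
    ((Ideal.quotEquivOfEq hgker.symm).trans (RingHom.quotientKerEquivOfSurjective hgsurj))

variable {R : Type u} [CommRing R]

/-- First order expansion along a point with values in a domain. -/
theorem partials_eq_zero (W : WeierstrassCurve.Affine R) {D : Type u} [CommRing D] [IsDomain D]
    (q : R[X][X] →+* D) (s : R[X][X]) (hs : q s ≠ 0) (hmem : s * W.polynomial ∈ (RingHom.ker q) ^ 2) :
    q W.polynomialX = 0 ∧ q W.polynomialY = 0 := by
  let c : R →+* D := q.comp (C.comp C)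
  let x : D := q (C X)
  let y : D := q X
  let φ : D → D → (R[X][X] →+* DualNumber D) := fun u v => eval₂RingHom
    (eval₂RingHom ((TrivSqZeroExt.inlHom D D).comp c) (TrivSqZeroExt.inl x + TrivSqZeroExt.inr u))
    (TrivSqZeroExt.inl y + TrivSqZeroExt.inr v)
  have hfst : ∀ u v p, (φ u v p).fst = q p := fun u v p => by
    have : ((TrivSqZeroExt.fstHom D D D).toRingHom.comp (φ u v)) = q := by
      refine Polynomial.ringHom_ext' (Polynomial.ringHom_ext' ?_ ?_) ?_
      · ext r; simp [φ, c]
      · simp [φ, x]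
      · simp [φ, y]
    exact RingHom.congr_fun this p
  have hsq : ∀ u v, φ u v (s * W.polynomial) = 0 := fun u v => by
    suffices ∀ z ∈ (RingHom.ker q) ^ 2, φ u v z = 0 from this _ hmem
    intro z hz
    rw [pow_two] at hz
    induction hz using Submodule.mul_induction_on' with
    | mem_mul_mem a ha b hb =>
      have ea : (φ u v a).fst = 0 := by rw [hfst]; exact ha
      have eb : (φ u v b).fst = 0 := by rw [hfst]; exact hb
      rw [map_mul]
      ext <;> simp [ea, eb]
    | add a _ b _ ha hb => rw [map_add, ha, hb, add_zero]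
  have hF : q W.polynomial = 0 := by
    have := congrArg TrivSqZeroExt.fst (hsq 0 0)
    rw [hfst, map_mul, TrivSqZeroExt.fst_zero] at this
    exact (mul_eq_zero.1 this).resolve_left hs
  have hsnd : ∀ u v, (φ u v W.polynomial).snd = u * q W.polynomialX + v * q W.polynomialY := fun u v => by
    simp [φ, WeierstrassCurve.Affine.polynomial, WeierstrassCurve.Affine.polynomialX,
      WeierstrassCurve.Affine.polynomialY, c, x, y, map_ofNat, pow_succ]
    ring
  have key : ∀ u v, u * q W.polynomialX + v * q W.polynomialY = 0 := fun u v => by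
    have := congrArg TrivSqZeroExt.snd (hsq u v)
    rw [map_mul, DualNumber.snd_mul, hfst, hfst, hF, mul_zero, add_zero, hsnd, TrivSqZeroExt.snd_zero] at this
    exact (mul_eq_zero.1 this).resolve_left hs
  exact ⟨by simpa using key 1 0, by simpa using key 0 1⟩

theorem not_mem_sq_of_partial (W : WeierstrassCurve.Affine R) (Q : Ideal R[X][X]) [Q.IsPrime]
    (hder : W.polynomialX ∉ Q ∨ W.polynomialY ∉ Q) (s : R[X][X]) (hs : s ∉ Q) :
    s * W.polynomial ∉ Q ^ 2 := by
  intro hmem
  have h := partials_eq_zero W (D := R[X][X] ⧸ Q) (Ideal.Quotient.mk Q) s (fun h => hs (Ideal.Quotient.eq_zero_iff_mem.1 h))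
    (by rwa [Ideal.mk_ker])
  rcases hder with h' | h'
  · exact h' (Ideal.Quotient.eq_zero_iff_mem.1 h.1)
  · exact h' (Ideal.Quotient.eq_zero_iff_mem.1 h.2)

/-- A point where both partial derivatives vanish is on a curve with zero discriminant. -/
theorem delta_eq_zero (W : WeierstrassCurve.Affine R) {D : Type u} [CommRing D] [IsDomain D]
    (c : R →+* D) (x y : D)
    (e0 : y ^ 2 + c W.a₁ * x * y + c W.a₃ * y - (x ^ 3 + c W.a₂ * x ^ 2 + c W.a₄ * x + c W.a₆) = 0)
    (ex : c W.a₁ * y - (3 * x ^ 2 + 2 * c W.a₂ * x + c W.a₄) = 0)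
    (ey : 2 * y + c W.a₁ * x + c W.a₃ = 0) : c W.Δ = 0 := by
  classical
  let K := FractionRing D
  let ι := algebraMap D K
  let c' : R →+* K := ι.comp c
  let W' : WeierstrassCurve.Affine K := WeierstrassCurve.map W c'
  by_contra hne
  have hΔ' : W'.Δ ≠ 0 := by
    rw [show W'.Δ = ι (c W.Δ) from WeierstrassCurve.map_Δ W c']
    exact fun h => hne (IsFractionRing.injective D K (h.trans (map_zero ι).symm))
  have heq : W'.Equation (ι x) (ι y) := by
    rw [WeierstrassCurve.Affine.equation_iff']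
    simpa [W', c', map_ofNat] using congrArg ι e0
  have hns := (W'.equation_iff_nonsingular_of_Δ_ne_zero hΔ').1 heq
  rw [WeierstrassCurve.Affine.nonsingular_iff'] at hns
  rcases hns.2 with h | h
  · exact h (by simpa [W', c', map_ofNat] using congrArg ι ex)
  · exact h (by simpa [W', c', map_ofNat] using congrArg ι ey)

variable [IsDomain R] [IsDiscreteValuationRing R] (W : WeierstrassCurve.Affine R)
  (h3 : W.a₃ ∈ maximalIdeal R) (h4 : W.a₄ ∈ maximalIdeal R) (h6 : W.a₆ ∈ maximalIdeal R)
  (h6' : W.a₆ ∉ maximalIdeal R ^ 2) (P : Ideal W.CoordinateRing) [P.IsPrime]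

include h3 h4 h6 h6' in
theorem regular_at_origin (hP : ∀ r ∈ maximalIdeal R, algebraMap R W.CoordinateRing r ∈ P)
    (hx : WeierstrassCurve.Affine.CoordinateRing.mk W (C X) ∈ P)
    (hy : WeierstrassCurve.Affine.CoordinateRing.mk W X ∈ P) :
    IsRegularLocalRing (Localization.AtPrime P) := by
  refine isRegular_localization_of_hypersurface (WeierstrassCurve.Affine.CoordinateRing.mk W)
    AdjoinRoot.mk_surjective W.polynomial (by ext; simp [RingHom.mem_ker, AdjoinRoot.mk_eq_zero, Ideal.mem_span_singleton]) P ?_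
  intro s hs hmem
  set Q := P.comap (WeierstrassCurve.Affine.CoordinateRing.mk W) with hQ
  have hQC : ∀ r : R, C (C r) ∈ Q ↔ r ∈ maximalIdeal R := fun r => by
    refine ⟨fun h => ?_, fun h => ?_⟩
    · by_contra hr
      have hu : IsUnit r := by simpa [mem_nonunits_iff] using hr
      exact Ideal.IsPrime.ne_top inferInstance (Q.eq_top_of_isUnit_mem h ((hu.map C).map C))
    · have := hP r h
      exact this
  let ψ : R[X][X] →+* R ⧸ (maximalIdeal R) ^ 2 := (Ideal.Quotient.mk _).comp (evalEvalRingHom 0 0)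
  have hred : ∀ p, p - C (C (p.evalEval 0 0)) ∈ Q := fun p => by
    have e : p - C (C (p.evalEval 0 0)) = (p - C (p.coeff 0)) + (C (p.coeff 0 - C ((p.coeff 0).coeff 0))) := by
      rw [map_sub]
      simp [evalEval, ← coeff_zero_eq_eval_zero]
    rw [e]
    obtain ⟨a, ha⟩ := (Polynomial.X_dvd_sub_C (p := p))
    obtain ⟨b, hb⟩ := (Polynomial.X_dvd_sub_C (p := p.coeff 0))
    rw [ha, hb, map_mul]
    exact add_mem (Ideal.mul_mem_right _ _ hy) (Ideal.mul_mem_right _ _ hx)
  have hev : ∀ p ∈ Q, p.evalEval 0 0 ∈ maximalIdeal R := fun p hp => by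
    rw [← hQC]
    have := sub_mem hp (hred p)
    rwa [sub_sub_cancel] at this
  have hzero : ∀ z ∈ Q ^ 2, z.evalEval 0 0 ∈ maximalIdeal R ^ 2 := fun z hz => by
    rw [pow_two] at hz ⊢
    induction hz using Submodule.mul_induction_on' with
    | mem_mul_mem a ha b hb => rw [evalEval_mul]; exact Ideal.mul_mem_mul (hev a ha) (hev b hb)
    | add a _ b _ ha hb => rw [evalEval_add]; exact add_mem ha hb
  have h1 := hzero _ hmem
  rw [evalEval_mul, WeierstrassCurve.Affine.evalEval_polynomial_zero, mul_neg, neg_mem_iff] at h1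
  have hsu : IsUnit (s.evalEval 0 0) := by
    by_contra hu
    refine hs ?_
    have := add_mem (hred s) ((hQC _).2 (show s.evalEval 0 0 ∈ maximalIdeal R from hu))
    rwa [sub_add_cancel] at this
  exact h6' ((Ideal.unit_mul_mem_iff_mem _ hsu).1 h1)

include h3 h4 h6 h6' in
theorem regular_everywhere (hΔ : W.Δ ≠ 0) : IsRegularLocalRing (Localization.AtPrime P) := by
  classical
  set f := WeierstrassCurve.Affine.CoordinateRing.mk W
  set Q := P.comap f with hQ
  by_cases hder : W.polynomialX ∉ Q ∨ W.polynomialY ∉ Q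
  · exact isRegular_localization_of_hypersurface f AdjoinRoot.mk_surjective W.polynomial
      (by ext; simp [f, RingHom.mem_ker, AdjoinRoot.mk_eq_zero, Ideal.mem_span_singleton]) P
      fun s hs => not_mem_sq_of_partial W Q hder s hs
  push Not at hder
  let q := Ideal.Quotient.mk Q
  have hFQ : W.polynomial ∈ Q := by
    show f W.polynomial ∈ P
    rw [show f W.polynomial = 0 from AdjoinRoot.mk_self]
    exact zero_mem _
  let c : R →+* R[X][X] ⧸ Q := q.comp (C.comp C)
  let x := q (C X)
  let y := q X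
  have e0 : y ^ 2 + c W.a₁ * x * y + c W.a₃ * y - (x ^ 3 + c W.a₂ * x ^ 2 + c W.a₄ * x + c W.a₆) = 0 := by
    rw [← Ideal.Quotient.eq_zero_iff_mem.2 hFQ]
    simp [WeierstrassCurve.Affine.polynomial, c, x, y, q]; ring
  have ex : c W.a₁ * y - (3 * x ^ 2 + 2 * c W.a₂ * x + c W.a₄) = 0 := by
    rw [← Ideal.Quotient.eq_zero_iff_mem.2 hder.1]
    simp [WeierstrassCurve.Affine.polynomialX, c, x, y, q, map_ofNat]
  have ey : 2 * y + c W.a₁ * x + c W.a₃ = 0 := by
    rw [← Ideal.Quotient.eq_zero_iff_mem.2 hder.2]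
    simp [WeierstrassCurve.Affine.polynomialY, c, x, y, q, map_ofNat]; ring
  have hΔ0 : c W.Δ = 0 := delta_eq_zero W c x y e0 ex ey
  have hp : (Q.comap (C.comp C)) = maximalIdeal R := by
    have hpr : (Q.comap (C.comp C)).IsPrime := inferInstance
    refine IsLocalRing.eq_maximalIdeal (hpr.isMaximal ?_)
    intro hbot
    have : W.Δ ∈ Q.comap (C.comp C) := (Ideal.Quotient.eq_zero_iff_mem (I := Q)).1 hΔ0
    rw [hbot, Submodule.mem_bot] at this
    exact hΔ this
  have hc : ∀ r ∈ maximalIdeal R, c r = 0 := fun r hr => Ideal.Quotient.eq_zero_iff_mem.2 (hp.ge hr)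
  rw [hc _ h3, hc _ h4, hc _ h6] at e0
  rw [hc _ h4] at ex
  rw [hc _ h3] at ey
  have hx3 : x ^ 3 = 0 := by linear_combination -x * ex - y * ey + 2 * e0
  have hx0 : x = 0 := pow_eq_zero_iff (by norm_num) |>.1 hx3
  rw [hx0] at e0
  have hy0 : y = 0 := by
    refine (pow_eq_zero_iff (show (2 : ℕ) ≠ 0 by norm_num)).1 ?_
    linear_combination e0
  exact regular_at_origin W h3 h4 h6 h6' P (fun r hr => hp.ge hr)
    (show C X ∈ Q from Ideal.Quotient.eq_zero_iff_mem.1 hx0) (show X ∈ Q from Ideal.Quotient.eq_zero_iff_mem.1 hy0)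

end Groth.Agent.H28Alg
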