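import Mathlib.LinearAlgebra.Finsupp.LinearCombination
import Mathlib.LinearAlgebra.Quotient.Basic
import Mathlib.Tactic.Abel

/-!
# Symmetric cocycles split on free generators
-/

namespace Groth.Agent.H28Alg

universe u

/-- The extension of `P` by `Q` attached to a symmetric cocycle. -/
@[nolint unusedArguments]
def CocExt {P Q : Type u} [AddCommGroup P] [AddCommGroup Q] (_c : P → P → Q) : Type u := Q × P

variable {P Q : Type u} [AddCommGroup P] [AddCommGroup Q] (c : P → P → Q)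
  (hs : ∀ p q, c p q = c q p) (hc : ∀ p q r, c (p + q) r + c p q = c p (q + r) + c q r)

/-- abelian group structure -/
@[instance_reducible]
def cocExtGroup : AddCommGroup (CocExt c) where
  add x y := (x.1 + y.1 + c x.2 y.2, x.2 + y.2)
  zero := (-c 0 0, 0)
  neg x := (-x.1 - c x.2 (-x.2) - c 0 0, -x.2)
  add_assoc x y z := by
    refine Prod.ext ?_ (add_assoc x.2 y.2 z.2)
    show x.1 + y.1 + c x.2 y.2 + z.1 + c (x.2 + y.2) z.2 = x.1 + (y.1 + z.1 + c y.2 z.2) + c x.2 (y.2 + z.2)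
    calc _ = x.1 + y.1 + z.1 + (c (x.2 + y.2) z.2 + c x.2 y.2) := by abel
      _ = _ := by rw [hc]; abel
  zero_add x := by
    refine Prod.ext ?_ (zero_add x.2)
    show -c 0 0 + x.1 + c 0 x.2 = x.1
    have h := hc 0 0 x.2
    rw [zero_add, zero_add, add_left_cancel_iff] at h
    rw [h]; abel
  add_zero x := by
    refine Prod.ext ?_ (add_zero x.2)
    show x.1 + -c 0 0 + c x.2 0 = x.1
    have h := hc 0 0 x.2
    rw [zero_add, zero_add, add_left_cancel_iff] at h
    rw [hs x.2 0, h]; abel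
  add_comm x y := by
    refine Prod.ext ?_ (add_comm x.2 y.2)
    show x.1 + y.1 + c x.2 y.2 = y.1 + x.1 + c y.2 x.2
    rw [hs, add_comm x.1]
  neg_add_cancel x := by
    refine Prod.ext ?_ (neg_add_cancel x.2)
    show -x.1 - c x.2 (-x.2) - c 0 0 + x.1 + c (-x.2) x.2 = -c 0 0
    rw [hs (-x.2)]; abel
  nsmul := @nsmulRec _ ⟨((-c 0 0, 0) : Q × P)⟩ ⟨fun x y => (x.1 + y.1 + c x.2 y.2, x.2 + y.2)⟩
  zsmul := @zsmulRec _ ⟨((-c 0 0, 0) : Q × P)⟩ ⟨fun x y => (x.1 + y.1 + c x.2 y.2, x.2 + y.2)⟩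
    ⟨fun x => (-x.1 - c x.2 (-x.2) - c 0 0, -x.2)⟩
    (@nsmulRec _ ⟨((-c 0 0, 0) : Q × P)⟩ ⟨fun x y => (x.1 + y.1 + c x.2 y.2, x.2 + y.2)⟩)

include hs hc in
/-- A symmetric cocycle `π` vanishes on relations among the free generators. -/
theorem cocycle_vanish (π : (P × P →₀ ℤ) →ₗ[ℤ] Q) (hπ : ∀ p q, π (Finsupp.single (p, q) 1) = c p q)
    (x : P × P →₀ ℤ)
    (hx : Finsupp.linearCombination ℤ (fun pq : P × P =>
      Finsupp.single (pq.1 + pq.2) (1 : ℤ) - Finsupp.single pq.1 1 - Finsupp.single pq.2 1) x = 0) :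
    π x = 0 := by
  letI := cocExtGroup c hs hc
  let ι : Q →+ CocExt c :=
    { toFun := fun a => (a - c 0 0, 0)
      map_zero' := by show ((0 : Q) - c 0 0, (0 : P)) = (-c 0 0, 0); rw [zero_sub]
      map_add' := fun a b => by
        show ((a + b - c 0 0, 0) : Q × P) = (a - c 0 0 + (b - c 0 0) + c 0 0, 0 + 0)
        rw [zero_add]; congr 1; abel }
  let ρ : (P →₀ ℤ) →ₗ[ℤ] CocExt c := Finsupp.linearCombination ℤ fun p => ((0, p) : Q × P)
  have key : ρ ∘ₗ Finsupp.linearCombination ℤ (fun pq : P × P =>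
      Finsupp.single (pq.1 + pq.2) (1 : ℤ) - Finsupp.single pq.1 1 - Finsupp.single pq.2 1) =
      -(ι.toIntLinearMap ∘ₗ π) := by
    refine Finsupp.lhom_ext' fun pq => LinearMap.ext_ring ?_
    simp only [LinearMap.comp_apply, Finsupp.lsingle_apply, LinearMap.neg_apply,
      Finsupp.linearCombination_single, one_smul, map_sub, AddMonoidHom.coe_toIntLinearMap, hπ, ρ]
    rw [sub_sub, eq_neg_iff_add_eq_zero, sub_add_eq_add_sub, sub_eq_zero]
    show ((0 + (c pq.1 pq.2 - c 0 0) + c (pq.1 + pq.2) 0, pq.1 + pq.2 + 0) : Q × P) =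
      (0 + 0 + c pq.1 pq.2, pq.1 + pq.2)
    have h := hc 0 0 (pq.1 + pq.2)
    rw [zero_add, zero_add, add_left_cancel_iff] at h
    rw [hs (pq.1 + pq.2) 0, ← h, add_zero (pq.1 + pq.2)]
    congr 1
    abel
  have h := LinearMap.congr_fun key x
  rw [LinearMap.comp_apply, hx, map_zero, LinearMap.neg_apply, eq_comm, neg_eq_zero] at h
  have h' : ((π x - c 0 0, (0 : P)) : Q × P) = (-c 0 0, 0) := h
  have := congrArg Prod.fst h'
  simpa using this

end Groth.Agent.H28Alg
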