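import Mathlib.LinearAlgebra.Matrix.ToLin
import Mathlib.LinearAlgebra.Matrix.Symmetric
import Mathlib.LinearAlgebra.Quotient.Basic
import Mathlib.Algebra.Module.Torsion.Basic
import Mathlib.Algebra.Field.ZMod
import Mathlib.Algebra.BigOperators.Fin
import Mathlib.SetTheory.Cardinal.Finite
import Mathlib.Tactic.LinearCombination

/-!
# `ℓ`-torsion of the cokernel of a connected Laplacian-type matrix
-/

namespace Groth.Agent.H28Alg

open Finset

variable {n : ℕ} (A : Matrix (Fin n) (Fin n) ℤ)

lemma exists_growing (hn : 0 < n)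
    (hconn : ∀ I : Finset (Fin n), I.Nonempty → I ≠ univ → ∃ i ∈ I, ∃ j ∉ I, A i j ≠ 0) :
    ∀ k < n, ∃ (u : ℕ → Fin n) (par : ℕ → ℕ), Set.InjOn u (Set.Iio (k + 1)) ∧
      ∀ i, 1 ≤ i → i ≤ k → par i < i ∧ A (u (par i)) (u i) ≠ 0 := by
  classical
  intro k
  induction k with
  | zero =>
    exact fun _ => ⟨fun _ => ⟨0, hn⟩, fun _ => 0, fun a ha b hb _ => by simp at ha hb; omega,
      fun i h1 h2 => by omega⟩
  | succ k ih =>
    intro hk
    obtain ⟨u, par, hinj, hpar⟩ := ih (by omega)
    obtain ⟨i, hi, j, hj, hij⟩ := hconn ((range (k + 1)).image u)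
      ⟨u 0, mem_image.2 ⟨0, by simp, rfl⟩⟩ (fun e => by
        have := congrArg Finset.card e
        rw [card_image_of_injOn (by simpa using hinj), card_range, card_univ, Fintype.card_fin] at this
        omega)
    obtain ⟨p, hp, rfl⟩ := mem_image.1 hi
    simp only [mem_range] at hp
    have hj' : ∀ q < k + 1, u q ≠ j := fun q hq e => hj (mem_image.2 ⟨q, by simpa using hq, e⟩)
    refine ⟨Function.update u (k + 1) j, Function.update par (k + 1) p, fun a ha b hb e => ?_,
      fun i h1 h2 => ?_⟩
    · simp only [Set.mem_Iio] at ha hb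
      simp only [Function.update_apply] at e
      split_ifs at e with c1 c2 c2
      · omega
      · exact absurd e.symm (hj' b (by omega))
      · exact absurd e (hj' a (by omega))
      · exact hinj (show a < k + 1 by omega) (show b < k + 1 by omega) e
    · rcases eq_or_lt_of_le h2 with rfl | h3
      · simp only [Function.update_self]
        refine ⟨hp, ?_⟩
        rw [Function.update_of_ne (by omega)]
        exact hij
      · obtain ⟨a1, a2⟩ := hpar i h1 (by omega)
        simp only [Function.update_of_ne (show i ≠ k + 1 by omega),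
          Function.update_of_ne (show par i ≠ k + 1 by omega)]
        exact ⟨a1, a2⟩

theorem card_torsion_le (m : Fin n → ℤ) (hsymm : A.IsSymm) (hA : ∀ i j, i ≠ j → 0 ≤ A i j)
    (hAm : A.mulVec m = 0)
    (hconn : ∀ I : Finset (Fin n), I.Nonempty → I ≠ univ → ∃ i ∈ I, ∃ j ∉ I, A i j ≠ 0)
    (ℓ : ℕ) (hℓ : ℓ.Prime) (hℓA : ∀ i j, A i j ≠ 0 → ¬ ((ℓ : ℤ) ∣ A i j))
    (hℓm : ∀ i, ¬ ((ℓ : ℤ) ∣ m i)) :
    Nat.card (Submodule.torsionBy ℤ ((Fin n → ℤ) ⧸ LinearMap.range (Matrix.mulVecLin A)) (ℓ : ℤ))
      ≤ ℓ ^ ((univ.filter fun p : Fin n × Fin n => p.1 < p.2 ∧ 0 < A p.1 p.2).card + 1 - n) := by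
  classical
  haveI := Fact.mk hℓ
  rcases Nat.eq_zero_or_pos n with rfl | hn
  · have : Subsingleton (Submodule.torsionBy ℤ ((Fin 0 → ℤ) ⧸ LinearMap.range (Matrix.mulVecLin A)) (ℓ : ℤ)) := by
      refine ⟨fun a b => Subtype.ext ?_⟩
      obtain ⟨x, hx⟩ := Submodule.Quotient.mk_surjective _ a.1
      obtain ⟨y, hy⟩ := Submodule.Quotient.mk_surjective _ b.1
      rw [← hx, ← hy, Subsingleton.elim x y]
    exact (Finite.card_le_one_iff_subsingleton.2 this).trans (Nat.one_le_pow _ _ hℓ.pos)
  obtain ⟨u, par, hinj, hpar⟩ := exists_growing A hn hconn (n - 1) (by omega)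
  have hpos : ∀ i, 1 ≤ i → i < n → par i < i ∧ u (par i) ≠ u i ∧ A (u (par i)) (u i) ≠ 0 := by
    intro i h1 h2
    obtain ⟨a, b⟩ := hpar i h1 (by omega)
    refine ⟨a, fun e => ?_, b⟩
    have := hinj (show par i < n - 1 + 1 by omega) (show i < n - 1 + 1 by omega) e
    omega
  have hsurj : ∀ x : Fin n, ∃ i < n, u i = x := by
    intro x
    have hu : (range n).image u = univ := Finset.eq_univ_of_card _ (by
      rw [card_image_of_injOn (fun a ha b hb e => hinj (show a < n - 1 + 1 by simp at ha; omega)
        (show b < n - 1 + 1 by simp at hb; omega) e), card_range, Fintype.card_fin])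
    obtain ⟨i, hi, h⟩ := mem_image.1 (Finset.eq_univ_iff_forall.1 hu x)
    exact ⟨i, mem_range.1 hi, h⟩
  let ed : ℕ → Fin n × Fin n := fun i =>
    if u (par i) < u i then (u (par i), u i) else (u i, u (par i))
  let E := univ.filter fun p : Fin n × Fin n => p.1 < p.2 ∧ 0 < A p.1 p.2
  let NT := E \ (Finset.Ico 1 n).image ed
  have hsub : (Finset.Ico 1 n).image ed ⊆ E := by
    intro p hp
    obtain ⟨i, hi, rfl⟩ := mem_image.1 hp
    obtain ⟨h1, h2⟩ := Finset.mem_Ico.1 hi
    obtain ⟨a, b, c⟩ := hpos i h1 h2
    have hc := lt_of_le_of_ne (hA _ _ b) (Ne.symm c)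
    simp only [ed, E, mem_filter, mem_univ, true_and]
    split_ifs with h
    · exact ⟨h, hc⟩
    · refine ⟨lt_of_le_of_ne (not_lt.1 h) b.symm, ?_⟩
      rw [← hsymm.apply]; exact hc
  have hNT : NT.card = E.card + 1 - n := by
    simp only [NT]
    rw [card_sdiff_of_subset hsub, card_image_of_injOn, Nat.card_Ico]
    · omega
    · intro i hi j hj e
      simp only [Finset.coe_Ico, Set.mem_Ico] at hi hj
      obtain ⟨a1, b1, -⟩ := hpos i hi.1 hi.2
      obtain ⟨a2, b2, -⟩ := hpos j hj.1 hj.2
      have key : u i = u j ∨ (u i = u (par j) ∧ u (par i) = u j) := by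
        simp only [ed] at e
        split_ifs at e <;> simp only [Prod.mk.injEq] at e
        · exact .inl e.2
        · exact .inr ⟨e.2, e.1⟩
        · exact .inr ⟨e.1, e.2⟩
        · exact .inl e.1
      have ii : ∀ a b, a < n → b < n → u a = u b → a = b := fun a b ha hb h =>
        hinj (show a < n - 1 + 1 by omega) (show b < n - 1 + 1 by omega) h
      rcases key with k | ⟨k1, k2⟩
      · exact ii i j hi.2 hj.2 k
      · have := ii i (par j) hi.2 (by omega) k1
        have := ii (par i) j (by omega) hj.2 k2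
        omega
  let Q := (Fin n → ℤ) ⧸ LinearMap.range (Matrix.mulVecLin A)
  have hch : ∀ q : Submodule.torsionBy ℤ Q (ℓ : ℤ), ∃ xy : (Fin n → ℤ) × (Fin n → ℤ),
      Submodule.Quotient.mk xy.1 = (q : Q) ∧ (ℓ : ℤ) • xy.1 = A.mulVec xy.2 := by
    intro q
    obtain ⟨x, hx⟩ := Submodule.Quotient.mk_surjective _ (q : Q)
    have h := (Submodule.mem_torsionBy_iff _ _).1 q.2
    rw [← hx, ← Submodule.Quotient.mk_smul, Submodule.Quotient.mk_eq_zero] at h
    obtain ⟨y, hy⟩ := h
    exact ⟨(x, y), hx, hy.symm⟩
  choose xy hxy1 hxy2 using hch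
  let M : Fin n → ZMod ℓ := fun i => (m i : ZMod ℓ)
  have hM : ∀ i, M i ≠ 0 := fun i h => hℓm i ((ZMod.intCast_zmod_eq_zero_iff_dvd _ _).1 h)
  let z : Submodule.torsionBy ℤ Q (ℓ : ℤ) → Fin n → ZMod ℓ := fun q i => ((xy q).2 i : ZMod ℓ) / M i
  let Φ : Submodule.torsionBy ℤ Q (ℓ : ℤ) → (↥NT → ZMod ℓ) := fun q e => z q e.1.1 - z q e.1.2
  have hΦ : Function.Injective Φ := by
    intro q q' hqq
    let d : Fin n → ZMod ℓ := fun i => z q i - z q' i
    have hrow : ∀ i, ∑ j, (A i j : ZMod ℓ) * M j * (d j - d i) = 0 := by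
      intro i
      have hAy : ∀ r : Submodule.torsionBy ℤ Q (ℓ : ℤ), ∑ j, (A i j : ZMod ℓ) * M j * z r j = 0 := by
        intro r
        have h : (((ℓ : ℤ) * (xy r).1 i : ℤ) : ZMod ℓ) = ((∑ j, A i j * (xy r).2 j : ℤ) : ZMod ℓ) :=
          congrArg _ (congrFun (hxy2 r) i)
        push_cast at h
        simp only [ZMod.natCast_self, zero_mul] at h
        rw [h]
        refine Finset.sum_congr rfl fun j _ => ?_
        rw [mul_assoc]
        exact congrArg _ (mul_div_cancel₀ _ (hM j))
      have hm' : ∑ j, (A i j : ZMod ℓ) * M j = 0 := by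
        have h : ((∑ j, A i j * m j : ℤ) : ZMod ℓ) = ((0 : ℤ) : ZMod ℓ) := congrArg _ (congrFun hAm i)
        push_cast at h
        exact h
      simp only [d, mul_sub, Finset.sum_sub_distrib, hAy, ← Finset.sum_mul, hm', zero_mul, sub_zero]
    have hnt : ∀ e ∈ NT, d e.1 = d e.2 := by
      intro e he
      have := congrFun hqq ⟨e, he⟩
      simp only [Φ] at this
      simp only [d]
      linear_combination this
    have hstep : ∀ r, ∀ i, 1 ≤ i → i < n → n - i = r → d (u (par i)) = d (u i) := by
      intro r
      induction r using Nat.strong_induction_on with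
      | _ r ih =>
        intro i h1 h2 hr
        obtain ⟨a, b, c⟩ := hpos i h1 h2
        have h := hrow (u i)
        rw [Finset.sum_eq_single (u (par i))] at h
        · have hc : (A (u i) (u (par i)) : ZMod ℓ) ≠ 0 := fun h0 =>
            hℓA _ _ (by rw [← hsymm.apply]; exact c) ((ZMod.intCast_zmod_eq_zero_iff_dvd _ _).1 h0)
          simp only [mul_eq_zero, hc, hM, false_or, sub_eq_zero] at h
          exact h
        · intro x _ hx
          by_cases hxi : x = u i
          · rw [hxi, sub_self, mul_zero]
          by_cases hA0 : A (u i) x = 0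
          · simp [hA0]
          obtain ⟨j, hj, rfl⟩ := hsurj x
          have hAp := lt_of_le_of_ne (hA _ _ (Ne.symm hxi)) (Ne.symm hA0)
          suffices hd : d (u j) = d (u i) by rw [hd, sub_self, mul_zero]
          by_cases hchild : 1 ≤ j ∧ par j = i
          · have hp := hpos j hchild.1 hj
            rw [hchild.2] at hp
            have h' := ih (n - j) (by omega) j hchild.1 hj rfl
            rw [hchild.2] at h'
            exact h'.symm
          · have hjp : j ≠ par i := fun e => hx (by rw [e])
            have hji : j ≠ i := fun e => hxi (by rw [e])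
            let e : Fin n × Fin n := if u i < u j then (u i, u j) else (u j, u i)
            have he : e ∈ NT := by
              refine Finset.mem_sdiff.2 ⟨?_, ?_⟩
              · simp only [e, E, mem_filter, mem_univ, true_and]
                split_ifs with hlt
                · exact ⟨hlt, hAp⟩
                · exact ⟨lt_of_le_of_ne (not_lt.1 hlt) hxi, by rw [← hsymm.apply]; exact hAp⟩
              · intro hmem
                obtain ⟨k, hk, hke⟩ := mem_image.1 hmem
                obtain ⟨k1, k2⟩ := Finset.mem_Ico.1 hk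
                obtain ⟨a', -, -⟩ := hpos k k1 k2
                have ii : ∀ a b, a < n → b < n → u a = u b → a = b := fun a b ha hb h =>
                  hinj (show a < n - 1 + 1 by omega) (show b < n - 1 + 1 by omega) h
                have : (u (par k) = u i ∧ u k = u j) ∨ (u (par k) = u j ∧ u k = u i) := by
                  simp only [ed, e] at hke
                  split_ifs at hke <;> simp only [Prod.mk.injEq] at hke
                  · exact .inl hke
                  · exact .inr hke
                  · exact .inr ⟨hke.2, hke.1⟩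
                  · exact .inl ⟨hke.2, hke.1⟩
                rcases this with ⟨e1, e2⟩ | ⟨e1, e2⟩
                · have := ii _ _ (by omega) h2 e1
                  have := ii _ _ k2 hj e2
                  subst k
                  exact hchild ⟨k1, by assumption⟩
                · have := ii _ _ (by omega) hj e1
                  have := ii _ _ k2 h2 e2
                  subst k
                  exact hjp (by omega)
            have := hnt e he
            simp only [e] at this
            split_ifs at this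
            · exact this.symm
            · exact this
        · exact fun h => absurd (mem_univ _) h
    have hconst : ∀ i < n, d (u i) = d (u 0) := by
      intro i
      induction i using Nat.strong_induction_on with
      | _ i ih =>
        intro hi
        rcases Nat.eq_zero_or_pos i with rfl | hi0
        · rfl
        obtain ⟨a, -, -⟩ := hpos i hi0 hi
        rw [← hstep _ i hi0 hi rfl]
        exact ih _ a (by omega)
    obtain ⟨c, hc⟩ := ZMod.intCast_surjective (d (u 0))
    have hdiv : ∀ i, (ℓ : ℤ) ∣ (xy q).2 i - (xy q').2 i - c * m i := by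
      intro i
      refine (ZMod.intCast_zmod_eq_zero_iff_dvd _ _).1 ?_
      obtain ⟨j, hj, rfl⟩ := hsurj i
      have h := hconst j hj
      push_cast
      rw [hc, ← h]
      show _ - _ - (((xy q).2 (u j) : ZMod ℓ) / M (u j) - ((xy q').2 (u j) : ZMod ℓ) / M (u j)) * M (u j) = 0
      rw [sub_mul, div_mul_cancel₀ _ (hM _), div_mul_cancel₀ _ (hM _), sub_self]
    choose w hw using hdiv
    apply Subtype.ext
    rw [← hxy1 q, ← hxy1 q', Submodule.Quotient.eq]
    refine ⟨w, funext fun i => mul_left_cancel₀ (Int.natCast_ne_zero.2 hℓ.ne_zero) ?_⟩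
    have hy : (ℓ : ℤ) • w = (xy q).2 - (xy q').2 - c • m := funext fun i => (hw i).symm
    have := congrArg A.mulVec hy
    rw [Matrix.mulVec_smul, Matrix.mulVec_sub, Matrix.mulVec_sub, Matrix.mulVec_smul, hAm, smul_zero,
      sub_zero, ← hxy2, ← hxy2] at this
    have := congrFun this i
    simp only [Pi.smul_apply, Pi.sub_apply, smul_eq_mul] at this
    simp only [Matrix.mulVecLin_apply, Pi.sub_apply]
    linear_combination this
  calc Nat.card (Submodule.torsionBy ℤ Q (ℓ : ℤ)) ≤ Nat.card (↥NT → ZMod ℓ) :=
        Nat.card_le_card_of_injective Φ hΦ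
    _ = ℓ ^ (E.card + 1 - n) := by
        rw [Nat.card_fun, Nat.card_zmod, Nat.card_eq_fintype_card, Fintype.card_coe, hNT]

end Groth.Agent.H28Alg
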