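import Mathlib.RingTheory.AdjoinRoot
import Mathlib.RingTheory.Kaehler.Basic
import Mathlib.Algebra.MvPolynomial.PDeriv
import Mathlib.Algebra.CharP.Lemmas
import Mathlib.Algebra.CharP.Invertible
import Mathlib.Data.Nat.Choose.Dvd
import Mathlib.RingTheory.Derivation.MapCoeffs
import Mathlib.Algebra.Polynomial.Derivation
import Mathlib.Algebra.MvPolynomial.CommRing

/-!
# Trace on differentials for p-th root extensions
-/

namespace Groth.Agent.H28Alg

universe u

open MvPolynomial in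
/-- `(u+v)^(p-1) d(u+v) - u^(p-1) du - v^(p-1) dv` is exact. -/
theorem add_pow_exact {p : ℕ} (hp : p.Prime) {R S M : Type u} [CommRing R] [CommRing S] [Algebra R S]
    [AddCommGroup M] [Module S M] [Module R M] [IsScalarTower R S M] (D : Derivation R S M) (u v : S) :
    ∃ G : S, D G = (u + v) ^ (p - 1) • (D u + D v) - u ^ (p - 1) • D u - v ^ (p - 1) • D v := by
  classical
  let U : MvPolynomial (Fin 2) ℤ := X 0
  let V : MvPolynomial (Fin 2) ℤ := X 1
  obtain ⟨G, hG⟩ : ∃ G, (U + V) ^ p = U ^ p + V ^ p + (p : MvPolynomial (Fin 2) ℤ) * G := by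
    obtain ⟨G, hG⟩ := exists_add_pow_prime_eq hp U V
    exact ⟨U * V * G, by rw [hG]; ring⟩
  have hp0 : (p : MvPolynomial (Fin 2) ℤ) ≠ 0 := fun h => hp.ne_zero (by simpa using congrArg MvPolynomial.constantCoeff h)
  have hd : ∀ i, pderiv i G = (U + V) ^ (p - 1) * (pderiv i U + pderiv i V) - U ^ (p - 1) * pderiv i U -
      V ^ (p - 1) * pderiv i V := fun i => by
    have h := congrArg (pderiv i) hG
    rw [map_add, map_add, pderiv_mul, pderiv_pow, pderiv_pow, pderiv_pow, map_add, Derivation.map_natCast,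
      zero_mul, zero_add] at h
    refine mul_left_cancel₀ hp0 ?_
    linear_combination -h
  let f : Fin 2 → S := ![u, v]
  have chain : ∀ P : MvPolynomial (Fin 2) ℤ, D (aeval f P) =
      aeval f (pderiv 0 P) • D u + aeval f (pderiv 1 P) • D v := by
    intro P
    induction P using MvPolynomial.induction_on with
    | C a => simp
    | add a b ha hb => simp only [map_add, ha, hb, add_smul]; abel
    | mul_X a i ha =>
      rw [map_mul, Derivation.leibniz, ha, pderiv_mul, pderiv_mul, map_add, map_add, map_mul, map_mul, map_mul,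
        map_mul, aeval_X]
      fin_cases i <;> simp [f, add_smul, mul_smul, smul_add] <;> (try simp only [← mul_smul, mul_comm]) <;> abel
  refine ⟨aeval f G, ?_⟩
  rw [chain, hd, hd]
  simp only [map_sub, map_mul, map_add, map_pow, U, V, aeval_X, pderiv_X]
  simp [f, Pi.single_apply, sub_smul, smul_add]
  abel

open Polynomial

variable {p : ℕ} [Fact p.Prime] {R : Type u} [CommRing R] [CharP R p] (b : R)

omit [Fact p.Prime] [CharP R p] in
lemma root_pow_p : ((AdjoinRoot.root (X ^ p - C b : R[X])) : (AdjoinRoot (X ^ p - C b : R[X]))) ^ p = algebraMap R (AdjoinRoot (X ^ p - C b : R[X])) b := by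
  rw [← sub_eq_zero, ← AdjoinRoot.mk_X, ← map_pow, AdjoinRoot.algebraMap_eq, ← AdjoinRoot.mk_C, ← map_sub]
  exact AdjoinRoot.mk_self

omit [Fact p.Prime] [CharP R p] in
lemma root_pow (n : ℕ) : ((AdjoinRoot.root (X ^ p - C b : R[X])) : (AdjoinRoot (X ^ p - C b : R[X]))) ^ n = algebraMap R (AdjoinRoot (X ^ p - C b : R[X])) (b ^ (n / p)) * (AdjoinRoot.root (X ^ p - C b : R[X])) ^ (n % p) := by
  rw [map_pow, ← root_pow_p, ← pow_mul, ← pow_add, Nat.div_add_mod]

omit [Fact p.Prime] [CharP R p] in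
lemma D_mk (q : R[X]) : KaehlerDifferential.D R (AdjoinRoot (X ^ p - C b : R[X])) (AdjoinRoot.mk _ q) = AdjoinRoot.mk (X ^ p - C b : R[X]) (derivative q) • (KaehlerDifferential.D R (AdjoinRoot (X ^ p - C b : R[X])) (AdjoinRoot.root (X ^ p - C b : R[X]))) := by
  rw [← AdjoinRoot.aeval_eq, Derivation.map_aeval, AdjoinRoot.aeval_eq]

/-- Characterising properties of the trace. -/
structure IsTrace (T : Ω[(AdjoinRoot (X ^ p - C b : R[X]))⁄R] →ₗ[R] Ω[R⁄ℤ]) : Prop where
  low : ∀ i : ℕ, i + 2 ≤ p → T (((AdjoinRoot.root (X ^ p - C b : R[X])) : (AdjoinRoot (X ^ p - C b : R[X]))) ^ i • (KaehlerDifferential.D R (AdjoinRoot (X ^ p - C b : R[X])) (AdjoinRoot.root (X ^ p - C b : R[X])))) = 0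
  top : T (((AdjoinRoot.root (X ^ p - C b : R[X])) : (AdjoinRoot (X ^ p - C b : R[X]))) ^ (p - 1) • (KaehlerDifferential.D R (AdjoinRoot (X ^ p - C b : R[X])) (AdjoinRoot.root (X ^ p - C b : R[X])))) = KaehlerDifferential.D ℤ R b

variable {b} {T : Ω[(AdjoinRoot (X ^ p - C b : R[X]))⁄R] →ₗ[R] Ω[R⁄ℤ]} (hT : IsTrace b T)

include hT

lemma trace_mon (c : R) (n : ℕ) :
    T ((algebraMap R (AdjoinRoot (X ^ p - C b : R[X])) c * ((AdjoinRoot.root (X ^ p - C b : R[X])) : (AdjoinRoot (X ^ p - C b : R[X]))) ^ n) • (KaehlerDifferential.D R (AdjoinRoot (X ^ p - C b : R[X])) (AdjoinRoot.root (X ^ p - C b : R[X])))) =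
      if n % p = p - 1 then (c * b ^ (n / p)) • KaehlerDifferential.D ℤ R b else 0 := by
  have hp : p.Prime := Fact.out
  rw [root_pow, ← mul_assoc, ← map_mul, mul_smul, algebraMap_smul, map_smul]
  split_ifs with h
  · rw [h, hT.top]
  · have := Nat.mod_lt n hp.pos
    rw [hT.low _ (by omega), smul_zero]

lemma trace_exact (z : (AdjoinRoot (X ^ p - C b : R[X]))) : T (KaehlerDifferential.D R (AdjoinRoot (X ^ p - C b : R[X])) z) = 0 := by
  have hp : p.Prime := Fact.out
  obtain ⟨q, rfl⟩ := AdjoinRoot.mk_surjective z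
  induction q using Polynomial.induction_on' with
  | add q r hq hr => simp only [map_add, hq, hr, add_zero]
  | monomial n c =>
    rw [D_mk, derivative_monomial, ← Polynomial.C_mul_X_pow_eq_monomial, map_mul, map_pow, AdjoinRoot.mk_C,
      AdjoinRoot.mk_X, ← AdjoinRoot.algebraMap_eq, trace_mon hT]
    split_ifs with h
    · rcases Nat.eq_zero_or_pos n with rfl | hn
      · simp
      · have hdvd : p ∣ n := by
          have h2 := Nat.div_add_mod (n - 1) p
          refine ⟨(n - 1) / p + 1, ?_⟩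
          have := hp.pos
          rw [Nat.mul_succ]; omega
        rw [(CharP.cast_eq_zero_iff R p n).2 hdvd, mul_zero, zero_mul, zero_smul]
    · rfl

/-- The key property of the trace. -/
theorem trace_cartier (w : (AdjoinRoot (X ^ p - C b : R[X]))) :
    ∃ c : R, w ^ p = algebraMap R (AdjoinRoot (X ^ p - C b : R[X])) c ∧
      T (w ^ (p - 1) • KaehlerDifferential.D R (AdjoinRoot (X ^ p - C b : R[X])) w) = KaehlerDifferential.D ℤ R c := by
  have hp : p.Prime := Fact.out
  have hS : (p : (AdjoinRoot (X ^ p - C b : R[X]))) = 0 := by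
    rw [← map_natCast (algebraMap R (AdjoinRoot (X ^ p - C b : R[X]))) p, CharP.cast_eq_zero, map_zero]
  have hdpow : ∀ c : R, KaehlerDifferential.D ℤ R (c ^ p) = 0 := fun c => by
    rw [Derivation.leibniz_pow, smul_comm, ← Nat.cast_smul_eq_nsmul R, CharP.cast_eq_zero, zero_smul, smul_zero]
  obtain ⟨q, rfl⟩ := AdjoinRoot.mk_surjective w
  induction q using Polynomial.induction_on' with
  | add q r hq hr =>
    obtain ⟨c, hc, hc'⟩ := hq
    obtain ⟨d, hd, hd'⟩ := hr
    refine ⟨c + d, ?_, ?_⟩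
    · obtain ⟨g, hg⟩ := exists_add_pow_prime_eq hp (AdjoinRoot.mk _ q : (AdjoinRoot (X ^ p - C b : R[X]))) (AdjoinRoot.mk _ r)
      rw [map_add, hg, hc, hd, map_add, hS]; ring
    · obtain ⟨G, hG⟩ := add_pow_exact hp (KaehlerDifferential.D R (AdjoinRoot (X ^ p - C b : R[X]))) (AdjoinRoot.mk _ q : (AdjoinRoot (X ^ p - C b : R[X]))) (AdjoinRoot.mk _ r)
      have h0 := trace_exact hT G
      rw [hG, map_sub, map_sub, sub_sub, sub_eq_zero] at h0
      rw [map_add (AdjoinRoot.mk _), map_add (KaehlerDifferential.D R (AdjoinRoot (X ^ p - C b : R[X]))), h0, hc', hd', map_add]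
  | monomial n c =>
    refine ⟨c ^ p * b ^ n, ?_, ?_⟩
    · rw [← Polynomial.C_mul_X_pow_eq_monomial, map_mul, map_pow, AdjoinRoot.mk_C, AdjoinRoot.mk_X,
        ← AdjoinRoot.algebraMap_eq, mul_pow, ← pow_mul, mul_comm n p, pow_mul, root_pow_p, ← map_pow,
        ← map_pow, map_mul]
    · rw [D_mk, derivative_monomial, ← mul_smul, ← Polynomial.C_mul_X_pow_eq_monomial,
        ← Polynomial.C_mul_X_pow_eq_monomial, map_mul, map_mul, map_pow, map_pow, AdjoinRoot.mk_C,
        AdjoinRoot.mk_C, AdjoinRoot.mk_X, ← AdjoinRoot.algebraMap_eq]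
      rcases Nat.eq_zero_or_pos n with rfl | hn
      · simp [hdpow]
      obtain ⟨m, rfl⟩ : ∃ m, n = m + 1 := ⟨n - 1, by omega⟩
      obtain ⟨r, hr⟩ : ∃ r, p = r + 1 := ⟨p - 1, by have := hp.pos; omega⟩
      have e : (algebraMap R (AdjoinRoot (X ^ p - C b : R[X])) c * ((AdjoinRoot.root (X ^ p - C b : R[X])) : (AdjoinRoot (X ^ p - C b : R[X]))) ^ (m + 1)) ^ (p - 1) *
          (algebraMap R (AdjoinRoot (X ^ p - C b : R[X])) (c * ((m + 1 : ℕ) : R)) * ((AdjoinRoot.root (X ^ p - C b : R[X])) : (AdjoinRoot (X ^ p - C b : R[X]))) ^ (m + 1 - 1)) =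
          algebraMap R (AdjoinRoot (X ^ p - C b : R[X])) (c ^ p * ((m + 1 : ℕ) : R)) * ((AdjoinRoot.root (X ^ p - C b : R[X])) : (AdjoinRoot (X ^ p - C b : R[X]))) ^ ((p - 1) + p * m) := by
        rw [Nat.add_sub_cancel, mul_pow, map_mul, map_mul, map_pow, ← pow_mul,
          show p - 1 + p * m = (m + 1) * (p - 1) + m by rw [hr, Nat.add_sub_cancel]; ring, pow_add]
        rw [← pow_sub_one_mul hp.ne_zero (algebraMap R _ c)]
        ring
      rw [e, trace_mon hT, Nat.add_mul_mod_self_left, Nat.add_mul_div_left _ _ hp.pos,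
        Nat.mod_eq_of_lt (Nat.sub_lt hp.pos one_pos), if_pos rfl, Nat.div_eq_of_lt (Nat.sub_lt hp.pos one_pos),
        zero_add, Derivation.leibniz, hdpow, smul_zero, add_zero, Derivation.leibniz_pow, Nat.add_sub_cancel,
        ← Nat.cast_smul_eq_nsmul R, smul_smul, smul_smul, mul_assoc]

omit hT

theorem trace_unique {a : R} (φ : AdjoinRoot (X ^ p - C a : R[X]) →ₐ[R] (AdjoinRoot (X ^ p - C b : R[X])))
    {T' : Ω[AdjoinRoot (X ^ p - C a : R[X])⁄R] →ₗ[R] Ω[R⁄ℤ]} (hT : IsTrace b T) (hT' : IsTrace a T')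
    (hinj : Function.Injective (algebraMap R (AdjoinRoot (X ^ p - C b : R[X])))) (s t : AdjoinRoot (X ^ p - C a : R[X])) :
    T' (s • KaehlerDifferential.D R _ t) = T (φ s • KaehlerDifferential.D R (AdjoinRoot (X ^ p - C b : R[X])) (φ t)) := by
  have hp : p.Prime := Fact.out
  obtain ⟨q, rfl⟩ := AdjoinRoot.mk_surjective t
  set w : (AdjoinRoot (X ^ p - C b : R[X])) := φ (AdjoinRoot.root _) with hw
  have hφq : ∀ r : R[X], φ (AdjoinRoot.mk _ r) = aeval w r := fun r => by
    rw [← AdjoinRoot.aeval_eq, ← Polynomial.aeval_algHom_apply]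
  rw [D_mk, ← mul_smul, hφq, Derivation.map_aeval, ← hφq, ← mul_smul, ← map_mul]
  generalize s * AdjoinRoot.mk _ (derivative q) = z
  obtain ⟨r, rfl⟩ := AdjoinRoot.mk_surjective z
  obtain ⟨c, hc, hc'⟩ := trace_cartier hT w
  have hca : c = a := hinj (by rw [← hc, hw, ← map_pow, root_pow_p, AlgHom.commutes])
  induction r using Polynomial.induction_on' with
  | add r r' hr hr' => simp only [map_add, add_smul, hr, hr']
  | monomial n d =>
    rw [← Polynomial.C_mul_X_pow_eq_monomial, map_mul, map_pow, AdjoinRoot.mk_C, AdjoinRoot.mk_X,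
      ← AdjoinRoot.algebraMap_eq, trace_mon hT', map_mul, map_pow, AlgHom.commutes]
    have hwn : w ^ n = algebraMap R (AdjoinRoot (X ^ p - C b : R[X])) (a ^ (n / p)) * w ^ (n % p) := by
      rw [← hca, map_pow, ← hc, ← pow_mul, ← pow_add, Nat.div_add_mod]
    rw [← hw, hwn, ← mul_assoc, ← map_mul, mul_smul (algebraMap R (AdjoinRoot (X ^ p - C b : R[X])) _), algebraMap_smul, map_smul]
    split_ifs with h
    · rw [h, hc', hca]
    · have hlt := Nat.mod_lt n hp.pos
      have hu : IsUnit (((n % p + 1 : ℕ)) : R) :=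
        (CharP.isUnit_natCast_iff (R := R) hp).2 (fun hd => by have := Nat.le_of_dvd (by omega) hd; omega)
      have h0 := trace_exact hT (w ^ (n % p + 1))
      rw [Derivation.leibniz_pow, Nat.add_sub_cancel, map_nsmul, ← Nat.cast_smul_eq_nsmul R] at h0
      rw [hu.smul_eq_zero.1 h0, smul_zero]

end Groth.Agent.H28Alg
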