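import Mathlib.RingTheory.AdjoinRoot
import Mathlib.RingTheory.Kaehler.Basic
import Mathlib.Algebra.DualNumber
import Mathlib.Algebra.CharP.Lemmas
import Mathlib.LinearAlgebra.ExteriorPower.Basic
import Mathlib.LinearAlgebra.ExteriorAlgebra.Grading
import Mathlib.LinearAlgebra.TensorProduct.Tower
import Mathlib.RingTheory.TensorProduct.Maps

/-!
# Trace on higher differentials for p-th root extensions
-/

namespace Groth.Agent.H28Alg

universe u

open Polynomial TensorProduct

section algebra

variable (R S M : Type u) [CommRing R] [CommRing S] [Algebra R S] [AddCommGroup M] [Module R M]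

/-- Vectors inside the base changed exterior algebra. -/
noncomputable def jVec : S ⊗[R] M →ₗ[S] S ⊗[R] ExteriorAlgebra R M :=
  (ExteriorAlgebra.ι R).baseChange S

variable {R S M}

lemma jVec_tmul (s : S) (m : M) : jVec R S M (s ⊗ₜ m) = s ⊗ₜ ExteriorAlgebra.ι R m := rfl

lemma jVec_anti (u v : S ⊗[R] M) : jVec R S M u * jVec R S M v + jVec R S M v * jVec R S M u = 0 := by
  induction u using TensorProduct.induction_on with
  | zero => simp
  | tmul s m =>
    induction v using TensorProduct.induction_on with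
    | zero => simp
    | tmul s' m' =>
      rw [jVec_tmul, jVec_tmul, Algebra.TensorProduct.tmul_mul_tmul, Algebra.TensorProduct.tmul_mul_tmul,
        mul_comm s' s, ← TensorProduct.tmul_add, ExteriorAlgebra.ι_add_mul_swap, TensorProduct.tmul_zero]
    | add v w hv hw => rw [map_add, mul_add, add_mul, add_add_add_comm, hv, hw, add_zero]
  | add u w hu hw => rw [map_add, add_mul, mul_add, add_add_add_comm, hu, hw, add_zero]

lemma jVec_sq (v : S ⊗[R] M) : jVec R S M v * jVec R S M v = 0 := by
  induction v using TensorProduct.induction_on with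
  | zero => simp
  | tmul s m => rw [jVec_tmul, Algebra.TensorProduct.tmul_mul_tmul, ExteriorAlgebra.ι_sq_zero, TensorProduct.tmul_zero]
  | add v w hv hw =>
    rw [map_add, mul_add, add_mul, add_mul, hv, hw, zero_add, add_zero, jVec_anti]

lemma exists_move (v : S ⊗[R] M) (e : S ⊗[R] ExteriorAlgebra R M) :
    ∃ e', jVec R S M v * e = e' * jVec R S M v := by
  induction e using TensorProduct.induction_on with
  | zero => exact ⟨0, by simp⟩
  | tmul s x =>
    induction x using ExteriorAlgebra.induction generalizing s with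
    | algebraMap r =>
      refine ⟨s ⊗ₜ algebraMap R _ r, ?_⟩
      have : (s ⊗ₜ algebraMap R (ExteriorAlgebra R M) r : S ⊗[R] ExteriorAlgebra R M) = algebraMap S _ (r • s) := by
        rw [Algebra.TensorProduct.algebraMap_apply, Algebra.algebraMap_eq_smul_one, TensorProduct.tmul_smul,
          TensorProduct.smul_tmul']
        rfl
      rw [this]
      exact (Algebra.commutes _ _).symm
    | ι m =>
      refine ⟨-(s ⊗ₜ ExteriorAlgebra.ι R m), ?_⟩
      rw [← jVec_tmul, neg_mul]
      exact eq_neg_of_add_eq_zero_left (jVec_anti _ _)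
    | mul x y hx hy =>
      obtain ⟨x', hx'⟩ := hx s
      obtain ⟨y', hy'⟩ := hy 1
      refine ⟨x' * y', ?_⟩
      have : (s ⊗ₜ (x * y) : S ⊗[R] ExteriorAlgebra R M) = (s ⊗ₜ x) * ((1 : S) ⊗ₜ y) := by
        rw [Algebra.TensorProduct.tmul_mul_tmul, mul_one]
      rw [this, ← mul_assoc, hx', mul_assoc, hy', mul_assoc]
    | add x y hx hy =>
      obtain ⟨x', hx'⟩ := hx s
      obtain ⟨y', hy'⟩ := hy s
      exact ⟨x' + y', by rw [TensorProduct.tmul_add, mul_add, hx', hy', add_mul]⟩
  | add e f he hf =>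
    obtain ⟨e', he⟩ := he
    obtain ⟨f', hf⟩ := hf
    exact ⟨e' + f', by rw [mul_add, he, hf, add_mul]⟩

variable (d : S ⊗[R] M)

/-- The left ideal generated by a vector. -/
noncomputable def PMod : Submodule S (S ⊗[R] ExteriorAlgebra R M) :=
  LinearMap.range (LinearMap.mulRight S (jVec R S M d))

/-- Left multiplication by a vector on the left ideal. -/
noncomputable def lmulP : S ⊗[R] M →ₗ[S] Module.End S (PMod d) where
  toFun v := (LinearMap.mulLeft S (jVec R S M v)).restrict (p := PMod d) (q := PMod d) (by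
    rintro _ ⟨e, rfl⟩
    exact ⟨jVec R S M v * e, by simp [mul_assoc]⟩)
  map_add' v w := LinearMap.ext fun x => Subtype.ext (by simp [add_mul])
  map_smul' s v := LinearMap.ext fun x => Subtype.ext (by simp)

lemma lmulP_apply (v : S ⊗[R] M) (x : PMod d) :
    (lmulP d v x : S ⊗[R] ExteriorAlgebra R M) = jVec R S M v * (x : S ⊗[R] ExteriorAlgebra R M) := rfl

lemma lmulP_self : lmulP d d = 0 := by
  refine LinearMap.ext fun x => Subtype.ext ?_
  obtain ⟨_, e, rfl⟩ := x
  obtain ⟨e', he'⟩ := exists_move d e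
  show jVec R S M d * (e * jVec R S M d) = 0
  rw [← mul_assoc, he', mul_assoc, jVec_sq, mul_zero]

/-- The induced action of the quotient. -/
noncomputable def lbar : (S ⊗[R] M ⧸ Submodule.span S {d}) →ₗ[S] Module.End S (PMod d) :=
  Submodule.liftQ (R₂ := S) (M₂ := Module.End S (PMod d)) (Submodule.span S ({d} : Set (S ⊗[R] M))) (lmulP d) ((Submodule.span_le (p := LinearMap.ker (lmulP d))).2 fun v hv => by
    rw [Set.mem_singleton_iff.1 hv]
    exact LinearMap.mem_ker.2 (lmulP_self d))

lemma lbar_mk (v : S ⊗[R] M) : lbar d (Submodule.Quotient.mk v) = lmulP d v := rfl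

lemma lbar_sq (m : S ⊗[R] M ⧸ Submodule.span S {d}) (x : PMod d) : lbar d m (lbar d m x) = 0 := by
  obtain ⟨v, rfl⟩ := Submodule.mkQ_surjective _ m
  refine Subtype.ext ?_
  rw [Submodule.mkQ_apply, lbar_mk, lmulP_apply, lmulP_apply, ← mul_assoc, jVec_sq, zero_mul]
  rfl

variable {W : Type u} [AddCommGroup W] [Module S W]
  (π : W →ₗ[S] S ⊗[R] M ⧸ Submodule.span S {d}) (β : W →ₗ[S] S)

/-- The operator attached to a differential. -/
noncomputable def opr : W →ₗ[S] Module.End S (PMod d × PMod d) where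
  toFun w := ((lbar d (π w)).comp (LinearMap.fst S _ _)).prod
    (β w • LinearMap.fst S _ _ - (lbar d (π w)).comp (LinearMap.snd S _ _))
  map_add' v w := LinearMap.ext fun x => Prod.ext (by simp) (by simp [add_smul]; abel)
  map_smul' s v := LinearMap.ext fun x => Prod.ext (by simp) (by simp [smul_sub, mul_smul])

lemma opr_fst (w : W) (x : PMod d × PMod d) : (opr d π β w x).1 = lbar d (π w) x.1 := rfl

lemma opr_snd (w : W) (x : PMod d × PMod d) : (opr d π β w x).2 = β w • x.1 - lbar d (π w) x.2 := rfl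

lemma opr_sq (w : W) : opr d π β w * opr d π β w = 0 := by
  refine LinearMap.ext fun x => ?_
  rw [Module.End.mul_apply]
  refine Prod.ext ?_ ?_
  · rw [opr_fst, opr_fst, lbar_sq]; rfl
  · rw [opr_snd, opr_snd, opr_fst, map_sub, map_smul, lbar_sq, sub_zero, sub_self]; rfl

/-- The action of the exterior algebra. -/
noncomputable def act : ExteriorAlgebra S W →ₐ[S] Module.End S (PMod d × PMod d) :=
  ExteriorAlgebra.lift S ⟨opr d π β, opr_sq d π β⟩

lemma act_prod {n : ℕ} (v : Fin n → W) :
    act d π β (ExteriorAlgebra.ιMulti S n v) = (List.ofFn fun i => opr d π β (v i)).prod := by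
  rw [ExteriorAlgebra.ιMulti_apply, map_list_prod, List.map_ofFn]
  congr 1
  refine congrArg List.ofFn (funext fun i => ?_)
  exact ExteriorAlgebra.lift_ι_apply S _ _ _

/-- Value of a product of operators without the `dx` part. -/
lemma prod_opr : ∀ {n : ℕ} (v : Fin n → W) (m : Fin n → M),
    (∀ i, π (v i) = Submodule.Quotient.mk ((1 : S) ⊗ₜ m i)) → (∀ i, β (v i) = 0) →
    ∀ x : PMod d × PMod d,
      ((((List.ofFn fun i => opr d π β (v i)).prod) x).1 : S ⊗[R] ExteriorAlgebra R M) =
        ((1 : S) ⊗ₜ (List.ofFn fun i => ExteriorAlgebra.ι R (m i)).prod) * (x.1 : S ⊗[R] ExteriorAlgebra R M) ∧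
      ((((List.ofFn fun i => opr d π β (v i)).prod) x).2 : S ⊗[R] ExteriorAlgebra R M) =
        (-1 : S) ^ n • (((1 : S) ⊗ₜ (List.ofFn fun i => ExteriorAlgebra.ι R (m i)).prod) * (x.2 : S ⊗[R] ExteriorAlgebra R M))
  | 0, v, m, _, _, x => by
    simp only [List.ofFn_zero, List.prod_nil, Module.End.one_apply, pow_zero, one_smul]
    rw [← Algebra.TensorProduct.one_def, one_mul, one_mul]
    exact ⟨rfl, rfl⟩
  | n + 1, v, m, hπ, hβ, x => by
    obtain ⟨h1, h2⟩ := prod_opr (fun i => v i.succ) (fun i => m i.succ) (fun i => hπ _) (fun i => hβ _) x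
    rw [List.ofFn_succ, List.prod_cons, Module.End.mul_apply, List.ofFn_succ, List.prod_cons,
      show ((1 : S) ⊗ₜ[R] (ExteriorAlgebra.ι R (m 0) * (List.ofFn fun i => ExteriorAlgebra.ι R (m i.succ)).prod)
          : S ⊗[R] ExteriorAlgebra R M) =
        jVec R S M ((1 : S) ⊗ₜ m 0) * ((1 : S) ⊗ₜ (List.ofFn fun i => ExteriorAlgebra.ι R (m i.succ)).prod) by
        rw [jVec_tmul, Algebra.TensorProduct.tmul_mul_tmul, one_mul]]
    refine ⟨?_, ?_⟩
    · rw [opr_fst, hπ, lbar_mk, lmulP_apply, h1, mul_assoc]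
    · rw [opr_snd, hπ, hβ, lbar_mk, zero_smul, zero_sub, Submodule.coe_neg, lmulP_apply,
        h2, mul_smul_comm, pow_succ, mul_smul, neg_one_smul, smul_neg, mul_assoc]

end algebra

variable (p : ℕ) [Fact p.Prime] (Λ R : Type u) [CommRing Λ] [CommRing R] [Algebra Λ R] [CharP R p] (a : R)

theorem exists_trace_ext (t : ℕ) :
    ∃ Tr : (⋀[AdjoinRoot (X ^ p - C a : R[X])]^(t + 1) (Ω[AdjoinRoot (X ^ p - C a : R[X])⁄Λ])) →+ (⋀[R]^(t + 1) (Ω[R⁄Λ])),
      (∀ (r : R) (ω : ⋀[AdjoinRoot (X ^ p - C a : R[X])]^(t + 1) (Ω[AdjoinRoot (X ^ p - C a : R[X])⁄Λ])),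
        Tr (algebraMap R (AdjoinRoot (X ^ p - C a : R[X])) r • ω) = r • Tr ω) ∧
      (∀ (η : Fin t → Ω[R⁄Λ]) (i : ℕ), i + 2 ≤ p →
        Tr (exteriorPower.ιMulti _ (t + 1) (Fin.snoc (fun j => KaehlerDifferential.map Λ Λ R (AdjoinRoot (X ^ p - C a : R[X])) (η j))
          (AdjoinRoot.root (X ^ p - C a) ^ i • KaehlerDifferential.D Λ _ (AdjoinRoot.root (X ^ p - C a))))) = 0) ∧
      (∀ (η : Fin t → Ω[R⁄Λ]),
        Tr (exteriorPower.ιMulti _ (t + 1) (Fin.snoc (fun j => KaehlerDifferential.map Λ Λ R (AdjoinRoot (X ^ p - C a : R[X])) (η j))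
          (AdjoinRoot.root (X ^ p - C a) ^ (p - 1) • KaehlerDifferential.D Λ _ (AdjoinRoot.root (X ^ p - C a))))) =
          exteriorPower.ιMulti R (t + 1) (Fin.snoc η (KaehlerDifferential.D Λ R a))) ∧
      (∀ (s : AdjoinRoot (X ^ p - C a : R[X])) (η : Fin (t + 1) → Ω[R⁄Λ]),
        Tr (s • exteriorPower.ιMulti _ (t + 1) (fun j => KaehlerDifferential.map Λ Λ R (AdjoinRoot (X ^ p - C a : R[X])) (η j))) = 0) := by
  classical
  have hp : p.Prime := Fact.out
  have : Nontrivial R := CharP.nontrivial_of_char_ne_one hp.ne_one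
  let S := AdjoinRoot (X ^ p - C a : R[X])
  let x : S := AdjoinRoot.root _
  let M := Ω[R⁄Λ]
  let d : S ⊗[R] M := (1 : S) ⊗ₜ KaehlerDifferential.D Λ R a
  let Mbar := S ⊗[R] M ⧸ Submodule.span S {d}
  -- the derivation with values in `Mbar`
  let g1 : R →+* TrivSqZeroExt S Mbar :=
    { toFun := fun r => TrivSqZeroExt.inl (algebraMap R S r) +
        TrivSqZeroExt.inr (Submodule.Quotient.mk ((1 : S) ⊗ₜ KaehlerDifferential.D Λ R r))
      map_one' := by simp
      map_zero' := by simp
      map_mul' := fun r r' => by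
        ext
        · simp
        · simp only [TrivSqZeroExt.snd_mul, TrivSqZeroExt.fst_add, TrivSqZeroExt.snd_add, TrivSqZeroExt.fst_inl,
            TrivSqZeroExt.snd_inl, TrivSqZeroExt.fst_inr, TrivSqZeroExt.snd_inr, add_zero, zero_add]
          rw [op_smul_eq_smul, Derivation.leibniz, TensorProduct.tmul_add, TensorProduct.tmul_smul,
            TensorProduct.tmul_smul, Submodule.Quotient.mk_add, ← algebraMap_smul S r, ← algebraMap_smul S r',
            Submodule.Quotient.mk_smul, Submodule.Quotient.mk_smul]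
      map_add' := fun r r' => by
        ext
        · simp
        · simp [TensorProduct.tmul_add] }
  let φ1 : S →+* TrivSqZeroExt S Mbar := AdjoinRoot.lift g1 (TrivSqZeroExt.inl x) (by
    rw [eval₂_sub, eval₂_X_pow, eval₂_C, TrivSqZeroExt.inl_pow]
    have hxp : x ^ p = algebraMap R S a := by
      rw [← sub_eq_zero]
      show AdjoinRoot.root _ ^ p - algebraMap R S a = 0
      rw [← AdjoinRoot.mk_X, ← map_pow, AdjoinRoot.algebraMap_eq, ← AdjoinRoot.mk_C, ← map_sub]
      exact AdjoinRoot.mk_self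
    have h0 : (Submodule.Quotient.mk d : Mbar) = 0 :=
      (Submodule.Quotient.mk_eq_zero (Submodule.span S {d})).2 (Submodule.subset_span (Set.mem_singleton d))
    show TrivSqZeroExt.inl (x ^ p) - (TrivSqZeroExt.inl (algebraMap R S a) + TrivSqZeroExt.inr (Submodule.Quotient.mk d : Mbar)) = 0
    rw [hxp, h0, TrivSqZeroExt.inr_zero, add_zero, sub_self])
  have hf1 : ∀ s, (φ1 s).fst = s := by
    intro s
    have : (TrivSqZeroExt.fstHom S S Mbar).toRingHom.comp φ1 = RingHom.id S := by
      refine AdjoinRoot.ringHom_ext ?_ ?_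
      · refine RingHom.ext fun r => ?_
        show (φ1 (AdjoinRoot.of _ r)).fst = AdjoinRoot.of _ r
        erw [AdjoinRoot.lift_of]
        simp [g1]
        rfl
      · show (φ1 x).fst = x
        erw [AdjoinRoot.lift_root]
        rfl
    exact RingHom.congr_fun this s
  have hΛ1 : ∀ l : Λ, (φ1 (algebraMap Λ S l)).snd = 0 := fun l => by
    rw [IsScalarTower.algebraMap_apply Λ R S, AdjoinRoot.algebraMap_eq]
    erw [AdjoinRoot.lift_of]
    simp [g1]
  let δ1 : Derivation Λ S Mbar := Derivation.mk'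
    { toFun := fun s => (φ1 s).snd
      map_add' := fun s s' => by simp
      map_smul' := fun l s => by
        rw [Algebra.smul_def, map_mul, TrivSqZeroExt.snd_mul, hf1, hΛ1, smul_zero, add_zero, algebraMap_smul]
        rfl }
    (fun s s' => by
      show (φ1 (s * s')).snd = s • (φ1 s').snd + s' • (φ1 s).snd
      rw [map_mul, TrivSqZeroExt.snd_mul, hf1, hf1, op_smul_eq_smul])
  -- the `dx` coefficient
  let φ2 : S →+* DualNumber S := AdjoinRoot.lift ((TrivSqZeroExt.inlHom S S).comp (algebraMap R S))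
    (TrivSqZeroExt.inl x + TrivSqZeroExt.inr 1) (by
      have hxp : x ^ p = algebraMap R S a := by
        rw [← sub_eq_zero]
        show AdjoinRoot.root _ ^ p - algebraMap R S a = 0
        rw [← AdjoinRoot.mk_X, ← map_pow, AdjoinRoot.algebraMap_eq, ← AdjoinRoot.mk_C, ← map_sub]
        exact AdjoinRoot.mk_self
      have hS : (p : S) = 0 := by rw [← map_natCast (algebraMap R S) p, CharP.cast_eq_zero, map_zero]
      rw [eval₂_sub, eval₂_X_pow, eval₂_C]
      ext
      · simp [hxp]
      · simp [TrivSqZeroExt.snd_pow, hS])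
  have hf2 : ∀ s, (φ2 s).fst = s := by
    intro s
    have : (TrivSqZeroExt.fstHom S S S).toRingHom.comp φ2 = RingHom.id S := by
      refine AdjoinRoot.ringHom_ext ?_ ?_
      · refine RingHom.ext fun r => ?_
        show (φ2 (AdjoinRoot.of _ r)).fst = AdjoinRoot.of _ r
        erw [AdjoinRoot.lift_of]
        rfl
      · show (φ2 x).fst = x
        erw [AdjoinRoot.lift_root]
        simp [x]
    exact RingHom.congr_fun this s
  have hR2 : ∀ r : R, (φ2 (algebraMap R S r)).snd = 0 := fun r => by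
    rw [AdjoinRoot.algebraMap_eq]
    erw [AdjoinRoot.lift_of]
    rfl
  let δ2 : Derivation Λ S S := Derivation.mk'
    { toFun := fun s => (φ2 s).snd
      map_add' := fun s s' => by simp
      map_smul' := fun l s => by
        rw [Algebra.smul_def, map_mul, TrivSqZeroExt.snd_mul, hf2, IsScalarTower.algebraMap_apply Λ R S, hR2,
          smul_zero, add_zero, ← IsScalarTower.algebraMap_apply Λ R S, smul_eq_mul, Algebra.smul_def]
        rfl }
    (fun s s' => by
      show (φ2 (s * s')).snd = s • (φ2 s').snd + s' • (φ2 s).snd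
      rw [map_mul, TrivSqZeroExt.snd_mul, hf2, hf2, op_smul_eq_smul])
  let π := δ1.liftKaehlerDifferential
  let β := δ2.liftKaehlerDifferential
  have hη : ∀ η : M, π (KaehlerDifferential.map Λ Λ R S η) = Submodule.Quotient.mk ((1 : S) ⊗ₜ η) ∧
      β (KaehlerDifferential.map Λ Λ R S η) = 0 := by
    intro η
    have hmem : η ∈ Submodule.span R (Set.range (KaehlerDifferential.D Λ R)) := by
      rw [KaehlerDifferential.span_range_derivation]; trivial
    induction hmem using Submodule.span_induction with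
    | mem z hz =>
      obtain ⟨r, rfl⟩ := hz
      rw [KaehlerDifferential.map_D]
      refine ⟨?_, ?_⟩
      · rw [Derivation.liftKaehlerDifferential_comp_D]
        show (φ1 (algebraMap R S r)).snd = _
        rw [AdjoinRoot.algebraMap_eq]
        erw [AdjoinRoot.lift_of]
        simp [g1]
      · rw [Derivation.liftKaehlerDifferential_comp_D]
        exact hR2 r
    | zero => simp
    | add z w _ _ hz hw =>
      refine ⟨?_, by rw [map_add, map_add, hz.2, hw.2, add_zero]⟩
      rw [map_add, map_add, hz.1, hw.1, TensorProduct.tmul_add]; rfl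
    | smul r z _ hz =>
      have e : KaehlerDifferential.map Λ Λ R S (r • z) = algebraMap R S r • KaehlerDifferential.map Λ Λ R S z := by
        rw [map_smul, algebraMap_smul]
      refine ⟨?_, by rw [e, map_smul, hz.2, smul_zero]⟩
      rw [e, map_smul, hz.1, TensorProduct.tmul_smul, ← algebraMap_smul S r ((1 : S) ⊗ₜ z)]
      rfl
  have hx1 : π (KaehlerDifferential.D Λ S x) = 0 := by
    rw [Derivation.liftKaehlerDifferential_comp_D]
    show (φ1 x).snd = 0
    erw [AdjoinRoot.lift_root]
    rfl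
  have hx2 : β (KaehlerDifferential.D Λ S x) = 1 := by
    rw [Derivation.liftKaehlerDifferential_comp_D]
    show (φ2 x).snd = 1
    erw [AdjoinRoot.lift_root]
    simp [x]
  -- assembling
  let Ψ := act d π β
  let z0 : PMod d × PMod d := (⟨jVec R S M d, 1, by simp⟩, 0)
  have hm : (X ^ p - C a : R[X]).Monic := monic_X_pow_sub_C a hp.ne_zero
  have hdeg : (X ^ p - C a : R[X]).natDegree = p := natDegree_X_pow_sub_C
  let pb := AdjoinRoot.powerBasis' hm
  have hdim : pb.dim = p := by simp [pb, hdeg]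
  let c : S →ₗ[R] R := pb.basis.coord ⟨p - 1, by rw [hdim]; have := hp.pos; omega⟩
  have hc : ∀ i, i < p → c (x ^ i) = if i = p - 1 then 1 else 0 := fun i hi => by
    have : x ^ i = pb.basis ⟨i, by rw [hdim]; exact hi⟩ := by
      rw [pb.basis_eq_pow]
      simp [pb, x, AdjoinRoot.powerBasis'_gen]
    rw [this, Module.Basis.coord_apply, Module.Basis.repr_self, Finsupp.single_apply]
    simp [Fin.ext_iff]
  let co : S ⊗[R] ExteriorAlgebra R M →ₗ[R] ExteriorAlgebra R M :=
    (TensorProduct.lid R _).toLinearMap ∘ₗ c.rTensor _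
  have hco : ∀ (s : S) (e : ExteriorAlgebra R M), co (s ⊗ₜ e) = c s • e := fun s e => by simp [co]
  let pr : ExteriorAlgebra R M →ₗ[R] ⋀[R]^(t + 1) M :=
    (DirectSum.component R ℕ (fun i => ⋀[R]^i M) (t + 1)) ∘ₗ
      (DirectSum.decomposeLinearEquiv (fun i => ⋀[R]^i M)).toLinearMap
  have hpr : ∀ z : ⋀[R]^(t + 1) M, pr (z : ExteriorAlgebra R M) = z := fun z => by
    apply Subtype.ext
    show ((DirectSum.decompose (fun i => ⋀[R]^i M) (z : ExteriorAlgebra R M)) (t + 1) : ExteriorAlgebra R M) = z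
    exact DirectSum.decompose_of_mem_same _ z.2
  let out : ExteriorAlgebra S Ω[S⁄Λ] →ₗ[S] S ⊗[R] ExteriorAlgebra R M :=
    (PMod d).subtype ∘ₗ LinearMap.snd S _ _ ∘ₗ (LinearMap.applyₗ z0) ∘ₗ Ψ.toLinearMap
  have hout : ∀ w, out w = ((Ψ w z0).2 : S ⊗[R] ExteriorAlgebra R M) := fun w => rfl
  refine ⟨AddMonoidHom.mk' (fun ω => (-1 : R) ^ t • pr (co (out ω))) (fun u v => by
      rw [Submodule.coe_add, map_add, map_add, map_add, smul_add]), fun r ω => ?_, fun η i hi => ?_, fun η => ?_,
    fun s η => ?_⟩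
  · show (-1 : R) ^ t • pr (co (out _)) = r • ((-1 : R) ^ t • pr (co (out _)))
    rw [Submodule.coe_smul, map_smul out, algebraMap_smul, map_smul co, map_smul pr, smul_comm]
  all_goals show (-1 : R) ^ t • pr (co (out _)) = _
  on_goal 3 =>
    rw [Submodule.coe_smul, map_smul out, hout]
    simp only [exteriorPower.ιMulti_apply_coe]
    rw [act_prod, (prod_opr d π β _ η (fun i => (hη _).1) (fun i => (hη _).2) z0).2]
    simp [z0]
  all_goals
    have key : ∀ i : ℕ, co (out (ExteriorAlgebra.ιMulti S (t + 1) (Fin.snoc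
        (fun j => KaehlerDifferential.map Λ Λ R S (η j)) (x ^ i • KaehlerDifferential.D Λ S x)))) =
        ((-1 : R) ^ t * c (x ^ i)) • ((exteriorPower.ιMulti R (t + 1) (Fin.snoc η (KaehlerDifferential.D Λ R a))
          : ⋀[R]^(t + 1) M) : ExteriorAlgebra R M) := by
      intro i
      rw [hout, act_prod, List.ofFn_succ', List.concat_eq_append, List.prod_append, List.prod_singleton,
        Module.End.mul_apply]
      simp only [Fin.snoc_castSucc, Fin.snoc_last]
      rw [(prod_opr d π β _ η (fun i => (hη _).1) (fun i => (hη _).2) _).2, opr_snd, map_smul β, hx2,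
        map_smul π, hx1, smul_zero, map_zero, sub_zero, smul_eq_mul, mul_one]
      rw [exteriorPower.ιMulti_apply_coe, ExteriorAlgebra.ιMulti_apply, List.ofFn_succ' (n := t),
        List.concat_eq_append, List.prod_append, List.prod_singleton]
      simp only [Fin.snoc_castSucc, Fin.snoc_last]
      show co ((-1 : S) ^ t • ((1 : S) ⊗ₜ _ * (x ^ i • ((1 : S) ⊗ₜ[R] ExteriorAlgebra.ι R (KaehlerDifferential.D Λ R a))))) = _
      rw [TensorProduct.smul_tmul', Algebra.TensorProduct.tmul_mul_tmul, one_mul, smul_eq_mul, mul_one,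
        show (-1 : S) ^ t = algebraMap R S ((-1 : R) ^ t) by simp, algebraMap_smul, map_smul, hco, smul_smul]
  · rw [exteriorPower.ιMulti_apply_coe, key, hc i (by omega), if_neg (by omega), mul_zero, zero_smul, map_zero,
      smul_zero]
  · rw [exteriorPower.ιMulti_apply_coe, key, hc _ (Nat.sub_lt hp.pos one_pos), if_pos rfl, mul_one, map_smul,
      hpr, smul_smul, ← mul_pow, neg_mul_neg, one_mul, one_pow, one_smul]

end Groth.Agent.H28Alg
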